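import Cfsg.Agent.OddCyclic.EmpG.Graph
import Cfsg.Agent.MinSimple.EmptyTI
import Cfsg.Agent.ZN.Block
import Cfsg.Agent.Lib.CoprimeCommutator

/-!
# S0342 (Empty), part (III), section 2: the graph lemma (*), group level

`LF F P B N Y`: the facts of section 1 (blueprints/S0342-Empty-III-helper6.md): `B = P ∩ H`, `H = N B`, `T = O₂(B)`,
`Q = O₂(H)`, `C_S(F) = O₂(P)`, (1.1)-(1.5), (LP3).
`LF.F_le` = (2.1): `F ≤ O₂(H)`.  `main` = (*).
-/

set_option autoImplicit false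
set_option linter.unusedSectionVars false

namespace Cfsg.Agent.OddCyclic.EmpG.Line

open Subgroup MulAction Pointwise
open Cfsg.Agent.MinSimple.CosetGraph Cfsg.Agent.MinSimple.CosetFam Cfsg.Agent.ZN
open Cfsg.Agent.ZN.ChoiceBase (cj mem_cj cj_mono cj_one cj_cj cj_inv_cj cj_cj_inv mem_normalizer_iff_cj)
open Cfsg.Agent.MinSimple.EmptyTI (jcl cj_le_jcl le_jcl jcl_le)
open Cfsg.Agent.OddCyclic.EmpG.Graph
open scoped commutatorElement

universe u

variable {G : Type u} [Group G]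

/-- Section 1: a line `F` with `P`, `B`, `N`, `Y`; `H = N B`, `T = O₂(B)`, `Q = O₂(H)`, `O₂(P) = C_S(F)`. -/
structure LF (F P B N Y : Subgroup G) : Prop where
  BP : B ≤ P
  BN : B ≤ normalizer (N : Set G)
  PH : P ⊓ (N ⊔ B) ≤ B
  PF : P ≤ normalizer (F : Set G)
  Fsq : ∀ x ∈ F, x * x = 1
  YF : Y ≤ F
  NY : ∀ y ∈ Y, ∀ n ∈ N, n * y = y * n
  BY : B ≤ normalizer (Y : Set G)
  FR : F ≤ o2 P
  cF : ∀ t ∈ o2 P, ∀ x ∈ F, t * x = x * t
  cT : ∀ t ∈ o2 B, (∀ x ∈ F, t * x = x * t) → t ∈ o2 P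
  PB : o2 P ≤ B
  HB : o2 (N ⊔ B) ≤ B
  cN : ∀ t ∈ o2 B, (∀ n ∈ N, t * n * t⁻¹ * n⁻¹ ∈ o2 N) → t ∈ o2 (N ⊔ B)
  cP : P ⊓ centralizer (o2 P : Set G) ≤ o2 P
  cH : (N ⊔ B) ⊓ centralizer (o2 (N ⊔ B) : Set G) ≤ o2 (N ⊔ B)
  nl : ∀ K : Subgroup G, IsPGroup 2 K → K ≤ B → P ≤ normalizer (K : Set G) → N ⊔ B ≤ normalizer (K : Set G) → K = ⊥
  UN : ∀ g : G, cj g N ≠ N → ∀ x ∈ Y, x ∈ cj g Y → x = 1
  lp3 : ∀ x ∈ F, ∀ t ∈ o2 B, t * x * t⁻¹ * x⁻¹ ∈ Y

theorem o2_le (L : Subgroup G) : o2 L ≤ L := map_subtype_le _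

theorem conj_mem {X : Subgroup G} {g x : G} (hg : g ∈ normalizer (X : Set G)) (hx : x ∈ X) : g * x * g⁻¹ ∈ X :=
  (mem_normalizer_iff.1 hg x).1 hx

theorem conj_mem' {X : Subgroup G} {g x : G} (hg : g ∈ normalizer (X : Set G)) (hx : x ∈ X) : g⁻¹ * x * g ∈ X := by
  have := conj_mem (inv_mem hg) hx
  rwa [inv_inv] at this

/-- groups of exponent 2 commute -/
theorem comm_of_sq {X : Subgroup G} (h : ∀ x ∈ X, x * x = 1) {x y : G} (hx : x ∈ X) (hy : y ∈ X) : x * y = y * x := by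
  have h1 := h _ (mul_mem hx hy)
  have hx' := inv_of_sq (h x hx)
  have hy' := inv_of_sq (h y hy)
  have h2 : (x * y)⁻¹ = x * y := inv_of_sq h1
  rw [mul_inv_rev, hx', hy'] at h2
  exact h2.symm

/-- a group without nontrivial elements of odd order is a 2-group -/
theorem isPGroup_of_odd [Finite G] {K : Subgroup G} (h : ∀ x ∈ K, Odd (orderOf x) → x = 1) : IsPGroup 2 K := by
  rintro ⟨k, hk⟩
  obtain ⟨a, m, hm, ham⟩ := Nat.exists_eq_two_pow_mul_odd (orderOf_pos k).ne'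
  refine ⟨a, Subtype.ext ?_⟩
  have h1 : orderOf (k ^ 2 ^ a) = m := by
    rw [orderOf_pow_of_dvd (by positivity) (ham ▸ dvd_mul_right _ _), ham]
    exact Nat.mul_div_cancel_left _ (by positivity)
  exact h _ (K.pow_mem hk _) (h1 ▸ hm)

theorem eq_one_of_two_odd {K : Subgroup G} (hK : IsPGroup 2 K) {x : G} (hx : x ∈ K) (ho : Odd (orderOf x)) :
    x = 1 := by
  obtain ⟨k, hk⟩ := hK ⟨x, hx⟩
  have hk' : x ^ 2 ^ k = 1 := congrArg Subtype.val hk
  rw [← orderOf_eq_one_iff]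
  exact Nat.Coprime.eq_one_of_dvd (Nat.Coprime.pow_right k ho.coprime_two_right)
    (orderOf_dvd_of_pow_eq_one hk')

/-- an element of odd order with `[q, x]` an involution centralised by `x` -/
theorem comm_of_odd {q x : G} (ho : Odd (orderOf x)) (h1 : x * (q * x * q⁻¹ * x⁻¹) = (q * x * q⁻¹ * x⁻¹) * x)
    (h2 : (q * x * q⁻¹ * x⁻¹) * (q * x * q⁻¹ * x⁻¹) = 1) : q * x = x * q := by
  set y := q * x * q⁻¹ * x⁻¹ with hy
  have hc : Commute x y := h1
  have key : ∀ m : ℕ, q * x ^ m * q⁻¹ = y ^ m * x ^ m := by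
    intro m
    induction m with
    | zero => simp
    | succ m ih =>
      calc q * x ^ (m + 1) * q⁻¹ = (q * x ^ m * q⁻¹) * (q * x * q⁻¹) := by rw [pow_succ]; group
        _ = y ^ m * x ^ m * (y * x) := by rw [ih, hy]; group
        _ = y ^ m * (x ^ m * y) * x := by group
        _ = y ^ m * (y * x ^ m) * x := by rw [(hc.pow_left m).eq]
        _ = y ^ (m + 1) * x ^ (m + 1) := by rw [pow_succ, pow_succ]; group
  have h3 := key (orderOf x)
  rw [pow_orderOf_eq_one, mul_one, mul_inv_cancel, mul_one] at h3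
  obtain ⟨k, hk⟩ := ho
  rw [hk, pow_succ, pow_mul, pow_two, h2, one_pow, one_mul] at h3
  rw [hy] at h3
  have h4 : q * x * q⁻¹ * x⁻¹ = 1 := h3.symm
  rw [mul_inv_eq_one, mul_inv_eq_iff_eq_mul] at h4
  exact h4

namespace LF

variable {F P B N Y : Subgroup G} (L : LF F P B N Y)
include L

theorem NH : N ⊔ B ≤ normalizer (N : Set G) := sup_le le_normalizer L.BN

theorem o2P_le : o2 P ≤ o2 B :=
  Block.le_o2 (Block.o2_isPGroup P) L.PB (L.BP.trans (Block.le_normalizer_o2 P))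

theorem o2H_le : o2 (N ⊔ B) ≤ o2 B :=
  Block.le_o2 (Block.o2_isPGroup _) L.HB (le_sup_right.trans (Block.le_normalizer_o2 (N ⊔ B)))

theorem F_le_T : F ≤ o2 B := L.FR.trans L.o2P_le

theorem Fcomm {x y : G} (hx : x ∈ F) (hy : y ∈ F) : x * y = y * x := comm_of_sq L.Fsq hx hy

theorem HY : N ⊔ B ≤ normalizer (Y : Set G) := by
  refine sup_le ?_ L.BY
  intro n hn
  rw [mem_normalizer_iff]
  intro y
  constructor
  · intro hy
    rw [L.NY y hy n hn, mul_inv_cancel_right]; exact hy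
  · intro hy
    have h1 := L.NY _ hy n⁻¹ (inv_mem hn)
    have e : n⁻¹ * (n * y * n⁻¹) = y * n⁻¹ := by group
    rw [e] at h1
    have h2 : y = n * y * n⁻¹ := mul_right_cancel h1
    rw [h2]; exact hy

/-- `Q` centralises `N / O₂(N)` -/
theorem QN : ∀ t ∈ o2 (N ⊔ B), ∀ n ∈ N, t * n * t⁻¹ * n⁻¹ ∈ o2 N := by
  intro t ht n hn
  have h1 : o2 (N ⊔ B) ⊓ N ≤ o2 N := by
    refine Block.le_o2 ((Block.o2_isPGroup (N ⊔ B)).to_le inf_le_left) inf_le_right ?_
    intro n hn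
    rw [mem_normalizer_iff]
    intro x
    have h2 := le_sup_left (b := B) hn
    have h3 := Block.le_normalizer_o2 (N ⊔ B) h2
    rw [mem_inf, mem_inf]
    constructor
    · rintro ⟨hx1, hx2⟩
      exact ⟨conj_mem h3 hx1, mul_mem (mul_mem hn hx2) (inv_mem hn)⟩
    · rintro ⟨hx1, hx2⟩
      refine ⟨?_, ?_⟩
      · have := conj_mem' h3 hx1
        have e : n⁻¹ * (n * x * n⁻¹) * n = x := by group
        rwa [e] at this
      · have := mul_mem (mul_mem (inv_mem hn) hx2) hn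
        have e : n⁻¹ * (n * x * n⁻¹) * n = x := by group
        rwa [e] at this
  apply h1
  have hnH := le_sup_left (b := B) hn
  refine ⟨?_, ?_⟩
  · have h2 := conj_mem (Block.le_normalizer_o2 (N ⊔ B) hnH) (inv_mem ht)
    have e : t * n * t⁻¹ * n⁻¹ = t * (n * t⁻¹ * n⁻¹) := by group
    rw [e]
    exact mul_mem ht h2
  · exact N.mul_mem (conj_mem (L.NH (o2_le _ ht)) hn) (N.inv_mem hn)

/-- **(2.1)** `F ≤ Q` -/
theorem F_le [Finite G] : F ≤ o2 (N ⊔ B) := by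
  intro f hf
  refine L.cN f (L.F_le_T hf) ?_
  -- the subgroup `K` of elements `x` centralising `Y` with `[Q, x] ≤ Y`
  let K : Subgroup G :=
    { carrier := {x | (∀ y ∈ Y, x * y = y * x) ∧ ∀ q ∈ o2 (N ⊔ B), q * x * q⁻¹ * x⁻¹ ∈ Y}
      one_mem' := ⟨fun y _ => by rw [one_mul, mul_one], fun q _ => by
        have e : q * 1 * q⁻¹ * (1 : G)⁻¹ = 1 := by group
        rw [e]; exact one_mem _⟩
      mul_mem' := by
        rintro a b ⟨ha1, ha2⟩ ⟨hb1, hb2⟩
        refine ⟨fun y hy => by rw [mul_assoc, hb1 y hy, ← mul_assoc, ha1 y hy, mul_assoc], fun q hq => ?_⟩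
        have h1 := ha1 _ (hb2 q hq)
        have e : q * (a * b) * q⁻¹ * (a * b)⁻¹ = (q * a * q⁻¹ * a⁻¹) * (q * b * q⁻¹ * b⁻¹) := by
          calc q * (a * b) * q⁻¹ * (a * b)⁻¹ = q * a * q⁻¹ * a⁻¹ * (a * (q * b * q⁻¹ * b⁻¹)) * a⁻¹ := by group
            _ = q * a * q⁻¹ * a⁻¹ * ((q * b * q⁻¹ * b⁻¹) * a) * a⁻¹ := by rw [h1]
            _ = _ := by group
        rw [e]
        exact mul_mem (ha2 q hq) (hb2 q hq)
      inv_mem' := by
        rintro a ⟨ha1, ha2⟩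
        have ha3 : ∀ y ∈ Y, a⁻¹ * y = y * a⁻¹ := by
          intro y hy
          have h1 := ha1 y hy
          calc a⁻¹ * y = a⁻¹ * (y * a) * a⁻¹ := by group
            _ = y * a⁻¹ := by rw [← h1]; group
        refine ⟨ha3, fun q hq => ?_⟩
        have h1 := inv_mem (ha2 q hq)
        have h2 := ha3 _ h1
        have e : q * a⁻¹ * q⁻¹ * a⁻¹⁻¹ = a⁻¹ * (q * a * q⁻¹ * a⁻¹)⁻¹ * a := by group
        rw [e, h2, inv_mul_cancel_right]
        exact h1 }
  have hFK : F ≤ K := by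
    intro x hx
    refine ⟨fun y hy => L.Fcomm hx (L.YF hy), fun q hq => L.lp3 x hx q (L.o2H_le hq)⟩
  -- `K` is normalised by `N`
  have hKN : ∀ n ∈ N, ∀ x ∈ K, n * x * n⁻¹ ∈ K := by
    rintro n hn x ⟨hx1, hx2⟩
    have hnH := le_sup_left (b := B) hn
    have hnQ := Block.le_normalizer_o2 (N ⊔ B) hnH
    refine ⟨fun y hy => ?_, fun q hq => ?_⟩
    · have h1 := L.NY y hy n hn
      have h2 := L.NY y hy n⁻¹ (inv_mem hn)
      calc n * x * n⁻¹ * y = n * x * (n⁻¹ * y) := by group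
        _ = n * (x * y) * n⁻¹ := by rw [h2]; group
        _ = (n * y) * x * n⁻¹ := by rw [hx1 y hy]; group
        _ = y * (n * x * n⁻¹) := by rw [h1]; group
    · have h3 := hx2 _ (conj_mem' hnQ hq)
      have e : q * (n * x * n⁻¹) * q⁻¹ * (n * x * n⁻¹)⁻¹ =
          n * ((n⁻¹ * q * n) * x * (n⁻¹ * q * n)⁻¹ * x⁻¹) * n⁻¹ := by group
      rw [e]
      exact conj_mem (L.HY hnH) h3
  -- `D = [N, F]`
  set D : Subgroup G := ⁅N, F⁆ with hD
  have hFN : F ≤ normalizer (N : Set G) := (L.F_le_T.trans (o2_le B)).trans L.BN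
  have hDN : D ≤ N := by
    rw [hD, commutator_le]
    intro n hn x hx
    rw [commutatorElement_def]
    have e : n * x * n⁻¹ * x⁻¹ = n * (x * n⁻¹ * x⁻¹) := by group
    rw [e]
    exact mul_mem hn (conj_mem (hFN hx) (inv_mem hn))
  have hDK : D ≤ K := by
    rw [hD, commutator_le]
    intro n hn x hx
    rw [commutatorElement_def]
    exact K.mul_mem (hKN n hn x (hFK hx)) (K.inv_mem (hFK hx))
  have hND : N ≤ normalizer (D : Set G) := Cfsg.Agent.Lib.CoprimeCommutator.left_le_normalizer_commutator N F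
  have hD2 : IsPGroup 2 D := by
    refine isPGroup_of_odd fun x hx ho => ?_
    obtain ⟨hx1, hx2⟩ := hDK hx
    have hxH : x ∈ N ⊔ B := le_sup_left (b := B) (hDN hx)
    have hc : x ∈ centralizer (o2 (N ⊔ B) : Set G) := mem_centralizer_iff.2 fun q hq =>
      comm_of_odd ho (hx1 _ (hx2 q hq)) (L.Fsq _ (L.YF (hx2 q hq)))
    exact eq_one_of_two_odd (Block.o2_isPGroup (N ⊔ B)) (L.cH ⟨hxH, hc⟩) ho
  have hDO : D ≤ o2 N := Block.le_o2 hD2 hDN hND
  intro n hn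
  have h1 : n * f * n⁻¹ * f⁻¹ ∈ D := commutator_mem_commutator hn hf
  have h2 := hDO (inv_mem h1)
  have e : (n * f * n⁻¹ * f⁻¹)⁻¹ = f * n * f⁻¹ * n⁻¹ := by group
  rwa [e] at h2


theorem inf_eq : P ⊓ (N ⊔ B) = B := le_antisymm L.PH (le_inf L.BP le_sup_right)

/-- **faithful** -/
theorem faithful [Finite G] (K : Subgroup G) (h1 : K ≤ P) (h2 : K ≤ N ⊔ B) (h3 : P ≤ normalizer (K : Set G))
    (h4 : N ⊔ B ≤ normalizer (K : Set G)) : K = ⊥ := by
  have hKB : K ≤ B := L.PH.trans' (le_inf h1 h2)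
  have ho : o2 K = ⊥ := by
    refine L.nl (o2 K) (Block.o2_isPGroup K) ((o2_le K).trans hKB) ?_ ?_
    · intro g hg
      rw [mem_normalizer_iff_cj, ← ChoiceBase.pCore_cj, mem_normalizer_iff_cj.1 (h3 hg)]
    · intro g hg
      rw [mem_normalizer_iff_cj, ← ChoiceBase.pCore_cj, mem_normalizer_iff_cj.1 (h4 hg)]
  have hKP : K ⊓ o2 P ≤ o2 K := by
    refine Block.le_o2 ((Block.o2_isPGroup P).to_le inf_le_right) inf_le_left ?_
    intro g hg
    rw [mem_normalizer_iff_cj]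
    have e1 := mem_normalizer_iff_cj.1 (h3 (h1 hg))
    have e2 := mem_normalizer_iff_cj.1 (Block.le_normalizer_o2 P (h1 hg))
    rw [ChoiceBase.cj_inf, e1, e2]
  have hc : K ≤ centralizer (o2 P : Set G) := by
    intro x hx
    refine mem_centralizer_iff.2 fun q hq => ?_
    have h5 : q * x * q⁻¹ * x⁻¹ ∈ K ⊓ o2 P := by
      refine ⟨K.mul_mem (conj_mem (h3 (o2_le P hq)) hx) (K.inv_mem hx), ?_⟩
      have h6 := conj_mem (Block.le_normalizer_o2 P (h1 hx)) (inv_mem hq)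
      have e : q * x * q⁻¹ * x⁻¹ = q * (x * q⁻¹ * x⁻¹) := by group
      rw [e]
      exact mul_mem hq h6
    have h7 := hKP h5
    rw [ho, Subgroup.mem_bot, mul_inv_eq_one, mul_inv_eq_iff_eq_mul] at h7
    exact h7
  have h8 : K ≤ o2 P := (le_inf h1 hc).trans L.cP
  rw [eq_bot_iff, ← ho]
  exact (le_inf le_rfl h8).trans hKP

end LF

/-- the two vertex groups -/
def PP (P H : Subgroup G) : Bool → Subgroup G := fun i => cond i H P

/-- a family on lines -/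
def fl (F : Subgroup G) : Bool → Subgroup G := fun i => cond i ⊥ F

/-- a family on points -/
def fp (F : Subgroup G) : Bool → Subgroup G := fun i => cond i F ⊥

section fams

variable {P H : Subgroup G}

theorem fl_norm {F : Subgroup G} (h : P ≤ normalizer (F : Set G)) : ∀ i, PP P H i ≤ normalizer (fl F i : Set G)
  | false => h
  | true => by
    intro g _
    rw [mem_normalizer_iff]
    intro x
    show x ∈ (⊥ : Subgroup G) ↔ _ ∈ (⊥ : Subgroup G)
    rw [Subgroup.mem_bot, Subgroup.mem_bot, mul_inv_eq_one]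
    exact ⟨fun h => by rw [h, mul_one], fun h => by
      have : g * x = g * 1 := by rw [h, mul_one]
      exact mul_left_cancel this⟩

theorem fp_norm {F : Subgroup G} (h : H ≤ normalizer (F : Set G)) : ∀ i, PP P H i ≤ normalizer (fp F i : Set G)
  | true => h
  | false => by
    intro g _
    rw [mem_normalizer_iff]
    intro x
    show x ∈ (⊥ : Subgroup G) ↔ _ ∈ (⊥ : Subgroup G)
    rw [Subgroup.mem_bot, Subgroup.mem_bot, mul_inv_eq_one]
    exact ⟨fun h => by rw [h, mul_one], fun h => by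
      have : g * x = g * 1 := by rw [h, mul_one]
      exact mul_left_cancel this⟩

end fams


theorem relIndex_cj (g : G) (A B : Subgroup G) : (cj g A).relIndex (cj g B) = A.relIndex B :=
  Subgroup.relIndex_pointwise_smul (MulAut.conj g) A B

theorem ci_cj (g : G) (W E : Subgroup G) : ci (cj g W) (cj g E) = ci W E := by
  show (centralizer (cj g W : Set G)).relIndex (cj g E) = _
  rw [← ChoiceBase.cj_centralizer, relIndex_cj]

theorem jcl_sup {F B N : Subgroup G} (BN : B ≤ normalizer (N : Set G)) (hB : B ≤ normalizer (F : Set G)) :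
    jcl F (N ⊔ B) = jcl F N := by
  refine le_antisymm (jcl_le fun g hg => ?_) (Cfsg.Agent.MinSimple.EmptyTI.jcl_mono le_sup_left)
  rw [← SetLike.mem_coe, sup_comm, Subgroup.coe_mul_of_left_le_normalizer_right B N BN] at hg
  obtain ⟨b, hb, n, hn, rfl⟩ := hg
  have e : b * n = (b * n * b⁻¹) * b := by group
  show cj (b * n) F ≤ _
  rw [e, ← cj_cj, mem_normalizer_iff_cj.1 (hB hb)]
  exact cj_le_jcl (conj_mem (BN hb) hn)

namespace Inst

variable {F P B N Y : Subgroup G} (L : LF F P B N Y)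

/-- the vertices -/
abbrev VV (P N B : Subgroup G) : Type _ := CV (PP P (N ⊔ B))

/-- the edges -/
theorem edge {l p : VV P N B} (h : (coset (PP P (N ⊔ B))).A l p) (hl : (coset (PP P (N ⊔ B))).typ l = false) :
    ∃ g, l = mk (PP P (N ⊔ B)) false g ∧ p = mk (PP P (N ⊔ B)) true g := by
  obtain ⟨i, g, rfl, rfl⟩ := h
  have hi : i = false := hl
  subst hi
  exact ⟨g, rfl, rfl⟩

theorem point {p : VV P N B} (hp : (coset (PP P (N ⊔ B))).typ p = true) : ∃ g, p = mk (PP P (N ⊔ B)) true g := by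
  obtain ⟨g, hg⟩ := exists_mk _ p
  have : p.1 = true := hp
  rw [this] at hg
  exact ⟨g, hg⟩

include L

theorem F_mk (g : G) : fam (PP P (N ⊔ B)) (fl F) (mk _ false g) = cj g F := fam_mk _ (fl_norm L.PF) false g

theorem F_mk' (g : G) : fam (PP P (N ⊔ B)) (fl F) (mk _ true g) = ⊥ := by
  rw [fam_mk _ (fl_norm L.PF) true g]
  exact smul_bot _

theorem N_mk (g : G) : fam (PP P (N ⊔ B)) (fp N) (mk _ true g) = cj g N := fam_mk _ (fp_norm L.NH) true g

theorem Y_mk (g : G) : fam (PP P (N ⊔ B)) (fp Y) (mk _ true g) = cj g Y := fam_mk _ (fp_norm L.HY) true g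

omit L in
theorem Q_mk (g : G) : Qv G (mk (PP P (N ⊔ B)) false g) = cj g (o2 P) := Qv_mk _ false g

omit L in
theorem Q_mk' (g : G) : Qv G (mk (PP P (N ⊔ B)) true g) = cj g (o2 (N ⊔ B)) := Qv_mk _ true g

theorem T_mk (g : G) : o2 (stabilizer G (mk (PP P (N ⊔ B)) false g) ⊓ stabilizer G (mk (PP P (N ⊔ B)) true g)) =
    cj g (o2 B) := by
  rw [mk_stab, mk_stab, ← smul_inf]
  show o2 (MulAut.conj g • (P ⊓ (N ⊔ B))) = _
  rw [L.inf_eq, Cfsg.Agent.MinSimple.CosetFam.o2_conj]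
  rfl

variable [Finite G] {k h : ℕ}

/-- the graph of `P`, `H` -/
theorem gf
    (kk : ∀ E : Subgroup G, E ≤ o2 B → (∀ x ∈ E, x * x = 1) → ci F E ^ k ≤ ci E F)
    (hh : ∀ w ∈ o2 B, (∃ x ∈ F, w * x ≠ x * w) → 2 ^ h ≤ (centralizer {w}).relIndex F)
    (EV : ∀ y : G, cj y F ≤ o2 B → F ≤ cj y (o2 B) →
      (∀ x ∈ F, ∀ z ∈ cj y F, x * z * x⁻¹ * z⁻¹ ∈ Y ∧ x * z * x⁻¹ * z⁻¹ ∈ cj y Y) → ∀ x ∈ F, ∀ z ∈ cj y F, x * z = z * x) :
    GF (coset (PP P (N ⊔ B))) (fam _ (fl F)) (Qv G) (fam _ (fp N)) (fam _ (fp Y))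
      (fun v w => o2 (stabilizer G v ⊓ stabilizer G w)) k h where
  faith := coset_faithful _ fun K h1 h2 h3 h4 => L.faithful K h1 h2 h3 h4
  Fe := fam_eqv _ (fl_norm L.PF)
  Qe := Qv_eqv
  Fpt := by
    intro p hp
    obtain ⟨g, rfl⟩ := point hp
    exact (F_mk' L) g
  Fsq := by
    intro l x hx
    obtain ⟨g, hg⟩ := exists_mk _ l
    cases hi : l.1
    · rw [hi] at hg
      rw [hg, (F_mk L), mem_cj] at hx
      have h1 := L.Fsq _ hx
      have h2 : g⁻¹ * (x * x) * g = 1 := by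
        rw [← h1]; group
      have h3 : x * x = g * (g⁻¹ * (x * x) * g) * g⁻¹ := by group
      rw [h3, h2]; group
    · rw [hi] at hg
      rw [hg, (F_mk' L), Subgroup.mem_bot] at hx
      rw [hx, one_mul]
  FQ := by
    intro l
    obtain ⟨g, hg⟩ := exists_mk _ l
    cases hi : l.1
    · rw [hi] at hg
      rw [hg, (F_mk L), Q_mk]
      exact cj_mono g L.FR
    · rw [hi] at hg
      rw [hg, (F_mk' L)]
      exact bot_le
  Qst := fun v => Qv_le_stab
  adj := by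
    rintro v w ⟨i, g, rfl, rfl⟩
    cases i
    · show fam (PP P (N ⊔ B)) (fl F) (mk _ false g) ≤ Qv G (mk (PP P (N ⊔ B)) true g)
      rw [(F_mk L), Q_mk']
      exact cj_mono g L.F_le
    · rw [(F_mk' L)]
      exact bot_le
  Tst := fun _ _ => (o2_le _).trans inf_le_right
  QT := by
    intro l p hlp hl
    obtain ⟨g, rfl, rfl⟩ := edge hlp hl
    show _ ≤ o2 (stabilizer G _ ⊓ stabilizer G _)
    rw [(T_mk L), Q_mk]
    exact cj_mono g L.o2P_le
  QT' := by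
    intro l p hlp hl
    obtain ⟨g, rfl, rfl⟩ := edge hlp hl
    show _ ≤ o2 (stabilizer G _ ⊓ stabilizer G _)
    rw [(T_mk L), Q_mk']
    exact cj_mono g L.o2H_le
  lp3 := by
    intro l p hlp hl x hx t ht
    obtain ⟨g, rfl, rfl⟩ := edge hlp hl
    change t ∈ o2 (stabilizer G _ ⊓ stabilizer G _) at ht
    rw [(T_mk L), mem_cj] at ht
    rw [(F_mk L), mem_cj] at hx
    rw [(Y_mk L), mem_cj]
    have e : g⁻¹ * (t * x * t⁻¹ * x⁻¹) * g =
        (g⁻¹ * t * g) * (g⁻¹ * x * g) * (g⁻¹ * t * g)⁻¹ * (g⁻¹ * x * g)⁻¹ := by group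
    rw [e]
    exact L.lp3 _ hx _ ht
  QF := by
    intro v t ht x hx
    obtain ⟨g, hg⟩ := exists_mk _ v
    cases hi : v.1
    · rw [hi] at hg
      rw [hg, (F_mk L), mem_cj] at hx
      rw [hg, Q_mk, mem_cj] at ht
      have h1 := L.cF _ ht _ hx
      have e1 : (g⁻¹ * t * g) * (g⁻¹ * x * g) = g⁻¹ * (t * x) * g := by group
      have e2 : (g⁻¹ * x * g) * (g⁻¹ * t * g) = g⁻¹ * (x * t) * g := by group
      rw [e1, e2] at h1
      exact mul_left_cancel (mul_right_cancel h1)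
    · rw [hi] at hg
      rw [hg, (F_mk' L), Subgroup.mem_bot] at hx
      rw [hx, one_mul, mul_one]
  cT := by
    intro l p hlp hl t ht hc
    obtain ⟨g, rfl, rfl⟩ := edge hlp hl
    change t ∈ o2 (stabilizer G _ ⊓ stabilizer G _) at ht
    rw [(T_mk L), mem_cj] at ht
    rw [Q_mk, mem_cj]
    refine L.cT _ ht fun x hx => ?_
    have h1 := hc (g * x * g⁻¹) (by
      rw [(F_mk L), mem_cj]
      have e : g⁻¹ * (g * x * g⁻¹) * g = x := by group
      rwa [e])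
    calc g⁻¹ * t * g * x = g⁻¹ * (t * (g * x * g⁻¹)) * g := by group
      _ = g⁻¹ * ((g * x * g⁻¹) * t) * g := by rw [h1]
      _ = _ := by group
  QN := by
    intro p hp t ht n hn
    obtain ⟨g, rfl⟩ := point hp
    rw [Q_mk', mem_cj] at ht
    rw [(N_mk L)] at hn ⊢
    rw [mem_cj] at hn
    rw [ChoiceBase.pCore_cj, mem_cj]
    have e : g⁻¹ * (t * n * t⁻¹ * n⁻¹) * g =
        (g⁻¹ * t * g) * (g⁻¹ * n * g) * (g⁻¹ * t * g)⁻¹ * (g⁻¹ * n * g)⁻¹ := by group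
    rw [e]
    exact L.QN _ ht _ hn
  cN := by
    intro l p hlp hl t ht hc
    obtain ⟨g, rfl, rfl⟩ := edge hlp hl
    change t ∈ o2 (stabilizer G _ ⊓ stabilizer G _) at ht
    rw [(T_mk L), mem_cj] at ht
    rw [Q_mk', mem_cj]
    refine L.cN _ ht fun n hn => ?_
    have h1 := hc (g * n * g⁻¹) (by
      rw [(N_mk L), mem_cj]
      have e : g⁻¹ * (g * n * g⁻¹) * g = n := by group
      rwa [e])
    rw [(N_mk L), ChoiceBase.pCore_cj, mem_cj] at h1
    have e : g⁻¹ * (t * (g * n * g⁻¹) * t⁻¹ * (g * n * g⁻¹)⁻¹) * g =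
        (g⁻¹ * t * g) * n * (g⁻¹ * t * g)⁻¹ * n⁻¹ := by group
    rwa [e] at h1
  UN := by
    intro p p' hp hp' hne x hx hx'
    obtain ⟨g, rfl⟩ := point hp
    obtain ⟨g', rfl⟩ := point hp'
    rw [(N_mk L), (N_mk L)] at hne
    rw [(Y_mk L), mem_cj] at hx hx'
    have h1 := L.UN (g⁻¹ * g') (fun hcon => hne (by
      have := congrArg (cj g) hcon
      rw [cj_cj] at this
      have e : g * (g⁻¹ * g') = g' := by group
      rw [e] at this
      exact this.symm)) _ hx (by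
      rw [mem_cj]
      have e : (g⁻¹ * g')⁻¹ * (g⁻¹ * x * g) * (g⁻¹ * g') = g'⁻¹ * x * g' := by group
      rwa [e])
    have h3 : x = g * (g⁻¹ * x * g) * g⁻¹ := by group
    rw [h3, h1]; group
  kk := by
    intro l p hlp hl E hE hsq
    obtain ⟨g, rfl, rfl⟩ := edge hlp hl
    change E ≤ o2 (stabilizer G _ ⊓ stabilizer G _) at hE
    rw [(T_mk L)] at hE
    rw [(F_mk L)]
    have h1 := kk (cj g⁻¹ E) (by
      have := cj_mono g⁻¹ hE
      rwa [cj_inv_cj] at this) (fun x hx => by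
        rw [mem_cj] at hx
        have h2 := hsq _ hx
        have e : g⁻¹⁻¹ * x * g⁻¹ * (g⁻¹⁻¹ * x * g⁻¹) = g * (x * x) * g⁻¹ := by group
        rw [e] at h2
        have h3 : x * x = g⁻¹ * (g * (x * x) * g⁻¹) * g := by group
        rw [h3, h2]; group)
    rw [← ci_cj g F, ← ci_cj g _ F, cj_cj_inv] at h1
    exact h1
  hh := by
    intro l p hlp hl w hw hx
    obtain ⟨g, rfl, rfl⟩ := edge hlp hl
    change w ∈ o2 (stabilizer G _ ⊓ stabilizer G _) at hw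
    rw [(T_mk L), mem_cj] at hw
    obtain ⟨x, hx, hne⟩ := hx
    rw [(F_mk L)] at hx ⊢
    rw [mem_cj] at hx
    have h1 := hh _ hw ⟨_, hx, fun hcon => hne (by
      have e1 : (g⁻¹ * w * g) * (g⁻¹ * x * g) = g⁻¹ * (w * x) * g := by group
      have e2 : (g⁻¹ * x * g) * (g⁻¹ * w * g) = g⁻¹ * (x * w) * g := by group
      rw [e1, e2] at hcon
      exact mul_left_cancel (mul_right_cancel hcon))⟩
    have h2 : centralizer ({w} : Set G) = cj g (centralizer {g⁻¹ * w * g}) := by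
      ext y
      rw [mem_cj, mem_centralizer_singleton_iff, mem_centralizer_singleton_iff]
      constructor
      · intro hy
        calc g⁻¹ * y * g * (g⁻¹ * w * g) = g⁻¹ * (y * w) * g := by group
          _ = g⁻¹ * (w * y) * g := by rw [hy]
          _ = _ := by group
      · intro hy
        have e1 : (g⁻¹ * y * g) * (g⁻¹ * w * g) = g⁻¹ * (y * w) * g := by group
        have e2 : (g⁻¹ * w * g) * (g⁻¹ * y * g) = g⁻¹ * (w * y) * g := by group
        rw [e1, e2] at hy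
        exact mul_left_cancel (mul_right_cancel hy)
    rw [h2, relIndex_cj]
    exact h1
  EV := by
    intro l p l' p' hlp hlp' hl hl' h1 h2 h3
    obtain ⟨g, rfl, rfl⟩ := edge hlp hl
    obtain ⟨g', rfl, rfl⟩ := edge hlp' hl'
    change _ ≤ o2 (stabilizer G _ ⊓ stabilizer G _) at h1
    change _ ≤ o2 (stabilizer G _ ⊓ stabilizer G _) at h2
    rw [T_mk L, F_mk L] at h1 h2
    rw [F_mk L, F_mk L, Y_mk L, Y_mk L] at h3
    rw [F_mk L, F_mk L]
    have key := EV (g⁻¹ * g') (by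
      have := cj_mono g⁻¹ h2
      rwa [cj_inv_cj, cj_cj] at this) (by
      have := cj_mono g⁻¹ h1
      rwa [cj_inv_cj, cj_cj] at this) (fun x hx z hz => by
        have h4 := h3 (g * x * g⁻¹) (by
          rw [mem_cj]
          have e : g⁻¹ * (g * x * g⁻¹) * g = x := by group
          rwa [e]) (g * z * g⁻¹) (by
          rw [mem_cj] at hz ⊢
          have e : (g⁻¹ * g')⁻¹ * z * (g⁻¹ * g') = g'⁻¹ * (g * z * g⁻¹) * g' := by group
          rwa [e] at hz)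
        have e : g * x * g⁻¹ * (g * z * g⁻¹) * (g * x * g⁻¹)⁻¹ * (g * z * g⁻¹)⁻¹ =
            g * (x * z * x⁻¹ * z⁻¹) * g⁻¹ := by group
        rw [e, mem_cj, mem_cj] at h4
        refine ⟨?_, ?_⟩
        · have e1 : g⁻¹ * (g * (x * z * x⁻¹ * z⁻¹) * g⁻¹) * g = x * z * x⁻¹ * z⁻¹ := by group
          rw [← e1]; exact h4.1
        · rw [mem_cj]
          have e1 : (g⁻¹ * g')⁻¹ * (x * z * x⁻¹ * z⁻¹) * (g⁻¹ * g') =
              g'⁻¹ * (g * (x * z * x⁻¹ * z⁻¹) * g⁻¹) * g' := by group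
          rw [e1]; exact h4.2)
    intro x hx y hy
    rw [mem_cj] at hx
    have h5 := key _ hx (g⁻¹ * y * g) (by
      rw [mem_cj] at hy ⊢
      have e : (g⁻¹ * g')⁻¹ * (g⁻¹ * y * g) * (g⁻¹ * g') = g'⁻¹ * y * g' := by group
      rwa [e])
    have e1 : (g⁻¹ * x * g) * (g⁻¹ * y * g) = g⁻¹ * (x * y) * g := by group
    have e2 : (g⁻¹ * y * g) * (g⁻¹ * x * g) = g⁻¹ * (y * x) * g := by group
    rw [e1, e2] at h5
    exact mul_left_cancel (mul_right_cancel h5)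

omit [Finite G] in
/-- `W` at the points -/
theorem W_mk (g : G) : Ws (coset (PP P (N ⊔ B))) (fam _ (fl F)) (mk (PP P (N ⊔ B)) true g) = cj g (jcl F N) := by
  rw [← jcl_sup L.BN (L.BP.trans L.PF)]
  apply le_antisymm
  · refine Ws_le fun l hl => ?_
    obtain ⟨p, hp, rfl⟩ := (coset_adj_iff _).1 hl
    show fam (PP P (N ⊔ B)) (fl F) (mk _ false (g * p)) ≤ _
    rw [F_mk L, ← cj_cj]
    exact cj_mono g (cj_le_jcl hp)
  · rw [ChoiceBase.cj_le_iff]
    refine jcl_le fun p hp => ?_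
    rw [← ChoiceBase.cj_le_iff, cj_cj, ← F_mk L]
    exact le_Ws ((coset_adj_iff _).2 ⟨p, hp, rfl⟩)

end Inst

/-- **(*)**, section 2 -/
theorem main [Finite G] {F P B N Y : Subgroup G} (L : LF F P B N Y) (hF : F ≠ ⊥) {k h : ℕ}
    (kk : ∀ E : Subgroup G, E ≤ o2 B → (∀ x ∈ E, x * x = 1) → ci F E ^ k ≤ ci E F)
    (hh : ∀ w ∈ o2 B, (∃ x ∈ F, w * x ≠ x * w) → 2 ^ h ≤ (centralizer {w}).relIndex F)
    (EV : ∀ y : G, cj y F ≤ o2 B → F ≤ cj y (o2 B) →
      (∀ x ∈ F, ∀ z ∈ cj y F, x * z * x⁻¹ * z⁻¹ ∈ Y ∧ x * z * x⁻¹ * z⁻¹ ∈ cj y Y) → ∀ x ∈ F, ∀ z ∈ cj y F, x * z = z * x) :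
    (∀ x ∈ jcl F N, ∀ y ∈ jcl F N, x * y = y * x) ∧ (∀ x ∈ jcl F N, x * x = 1) ∧ jcl F N ≤ o2 (N ⊔ B) ∧
      ∃ y : G, cj y (jcl F N) ≤ o2 P ∧ cj y (jcl F N) ≤ normalizer (jcl F N : Set G) ∧
        jcl F N ≤ normalizer (cj y (jcl F N) : Set G) ∧ ∃ a a' c : ℕ, (o2 (N ⊔ B)).relIndex (cj y (jcl F N)) = 2 ^ a ∧
          1 ≤ a ∧ a' ≤ a ∧ k * c ≤ a ∧ (c ≠ 0 → h ≤ a) ∧ ci (cj y (jcl F N)) (jcl F N) ≤ 2 ^ (a' + c) := by
  have g := Inst.gf L kk hh EV
  have hadj : (coset (PP P (N ⊔ B))).A (mk _ false 1) (mk _ true 1) := coset_adj _ false 1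
  obtain ⟨h2, p, p', l', hlp, htp, htp', h3, h4, h5, a, a', c, e1, e2, e3, e4, e5, e6⟩ := g.main hadj (by
    rw [Inst.F_mk L, cj_one]; exact hF)
  have hel := g.Ws_elem h2 (mk (PP P (N ⊔ B)) true 1)
  have hWQ := g.Ws_le_Q (p := mk (PP P (N ⊔ B)) true 1)
  rw [Inst.W_mk L, cj_one] at hel hWQ
  rw [Inst.Q_mk', cj_one] at hWQ
  obtain ⟨z, rfl, rfl⟩ := Inst.edge hlp (g.typ_of hlp htp')
  obtain ⟨z', rfl⟩ := Inst.point htp
  rw [Inst.W_mk L] at h3 h4 h5 e1 e6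
  rw [Inst.W_mk L] at h4 h5 e6
  rw [Inst.Q_mk] at h3
  rw [Inst.Q_mk'] at e1
  refine ⟨hel.1, hel.2, hWQ, z⁻¹ * z', ?_, ?_, ?_, a, a', c, ?_, e2, e3, e4, e5, ?_⟩
  · have := cj_mono z⁻¹ h3
    rwa [cj_inv_cj, cj_cj] at this
  · have := cj_mono z⁻¹ h4
    rwa [ChoiceBase.cj_normalizer, cj_inv_cj, cj_cj] at this
  · have := cj_mono z⁻¹ h5
    rwa [ChoiceBase.cj_normalizer, cj_inv_cj, cj_cj] at this
  · rw [← relIndex_cj z, cj_cj, mul_inv_cancel_left]
    exact e1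
  · rw [← ci_cj z, cj_cj, mul_inv_cancel_left]
    exact e6

end Cfsg.Agent.OddCyclic.EmpG.Line
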