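import Cfsg.Agent.OddCyclic.EmpG.Pcs
import Cfsg.Agent.OddCyclic.Emp3.NooG

/-!
# S0342 (Empty), part (III), section 1 (blueprints/S0342-Empty-III-helper6.md)

* `mem_o2_sup` (1.1): `O₂(N B) = {t ∈ O₂(B) | [t, N] ≤ O₂(N)}` for `S ≤ B ≤ M`;
* `comm_zc_of` (1.3): `N` centralises `Ω₁Z(O₂(N B))`;
* `Ln S I N F P` : a line `F ≤ V` with `S ≤ P ≤ N_G(F)`, `P ≰ M`, `O₂(P) = C_S(F)`; `exists_ln`: existence of `P`;
* `Ln.lf` : the hypotheses of section 2 (`LF`);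
* (1.4) `Ln.not_F_le`, `Ln.not_comm_le`; (1.5) `Ln.inf_eq_bot`, `Ln.card_sq_le`,
  `Ln.zc_le_Y`; (1.6) `Ln.comm_F_of`;
* `Ln.star` : (*) in the form used in sections 4, 6.
-/

set_option autoImplicit false
set_option linter.unusedSectionVars false

namespace Cfsg.Agent.OddCyclic.EmpG.Sec1

open Subgroup Cfsg Cfsg.Agent.ZN Cfsg.Agent.ZN.ChoiceBase Cfsg.Agent.ZN.ChoiceSit
open Cfsg.Agent.MinSimple Cfsg.Agent.MinSimple.EmptyTI Cfsg.Agent.MinSimple.EmptySix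
open Cfsg.Agent.MinSimple.EmptyE.Closed (LL vv_mul_self vv_le)
open Cfsg.Agent.OddCyclic.UniStruct (Pc o2_le_o2 o2_le_sylow o2_ne_bot_of_le)
open Cfsg.Agent.OddCyclic.EmpFrame
open Cfsg.Agent.OddCyclic.EmpG.Line (LF isPGroup_of_odd eq_one_of_two_odd comm_of_odd conj_mem conj_mem' comm_of_sq)
open Cfsg.Agent.OddCyclic.EmpG.Graph (ci)
open Cfsg.Agent.OddCyclic.EmpG.Pcs
open Cfsg.Agent.OddCyclic.Emp3.Noo (cq mem_cq normalizer_le_o2)
open Cfsg.Agent.OddCyclic.Emp3.NooG (cw mem_cw le_cw relIndex_cw_le Sit)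
open scoped commutatorElement

universe u

variable {G : Type u} [Group G] [Finite G] {S : Sylow 2 G} {I N : Subgroup G}

/-! ### (1.1) -/

/-- `O₂(N) ≤ O₂(M)` -/
theorem o2_piece_le (hN : JP (S : Subgroup G) I N) : o2 N ≤ o2 (normalizer (I : Set G)) :=
  Block.le_o2 (Block.o2_isPGroup N) ((Block.o2_le N).trans hN.pc.le) (hN.pc.norm.trans (normalizer_le_o2 N))

theorem M_ne_bot (hI : TIData (S : Subgroup G) I) : o2 (normalizer (I : Set G)) ≠ ⊥ :=
  o2_ne_bot_of_isTwoLocal (ENS.isTwoLocal_M hI)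

section BB

variable (h : ENS S) (hI : TIData (S : Subgroup G) I) (hN : JP (S : Subgroup G) I N) {B : Subgroup G}
  (hSB : (S : Subgroup G) ≤ B) (hBM : B ≤ normalizer (I : Set G))

include hN hBM in
theorem H_le : N ⊔ B ≤ normalizer (I : Set G) := sup_le hN.pc.le hBM

include hN hBM in
theorem H_le_N : N ⊔ B ≤ normalizer (N : Set G) := (H_le hN hBM).trans hN.pc.norm

include hN hBM hSB in
theorem o2M_le_H : o2 (normalizer (I : Set G)) ≤ o2 (N ⊔ B) := o2_le_o2 S (hSB.trans le_sup_right) (H_le hN hBM)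

include hN hBM hSB in
theorem o2N_le_H : o2 N ≤ o2 (N ⊔ B) := (o2_piece_le hN).trans (o2M_le_H hN hSB hBM)

include hN hBM hSB hI in
theorem o2H_ne_bot : o2 (N ⊔ B) ≠ ⊥ := o2_ne_bot_of_le S (hSB.trans le_sup_right) (H_le hN hBM) (M_ne_bot hI)

include h hI hN hBM hSB in
theorem char2_H : (N ⊔ B) ⊓ centralizer (o2 (N ⊔ B) : Set G) ≤ o2 (N ⊔ B) :=
  Basic.char2_of_o2_ne_bot h.hyp.char2 S (hSB.trans le_sup_right) (o2H_ne_bot hI hN hSB hBM)

include hN hBM hSB in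
/-- (1.1) -/
theorem mem_o2_sup {t : G} (ht : t ∈ o2 B) (hc : ∀ n ∈ N, t * n * t⁻¹ * n⁻¹ ∈ o2 N) : t ∈ o2 (N ⊔ B) := by
  have hNN : ∀ x ∈ normalizer (I : Set G), x ∈ normalizer (o2 N : Set G) :=
    fun x hx => normalizer_le_o2 N (hN.pc.norm hx)
  have hoB : o2 N ≤ o2 B := (o2_piece_le hN).trans (o2_le_o2 S hSB hBM)
  have hK1 : (o2 B ⊓ cq N : Subgroup G) ≤ o2 (N ⊔ B) := by
    refine Block.le_o2 ((Block.o2_isPGroup B).to_le inf_le_left)
      (inf_le_left.trans ((Block.o2_le B).trans le_sup_right)) ?_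
    have hcq : normalizer (I : Set G) ≤ normalizer (cq N : Set G) := by
      refine Block.le_normalizer_of_forall fun g hg x hx => ?_
      obtain ⟨hx1, hx2⟩ := mem_cq.1 hx
      refine mem_cq.2 ⟨mul_mem (mul_mem (hNN g hg) hx1) (inv_mem (hNN g hg)), fun n hn => ?_⟩
      have h1 := conj_mem (hNN g hg) (hx2 _ (conj_mem' (hN.pc.norm hg) hn))
      have e : g * x * g⁻¹ * n * (g * x * g⁻¹)⁻¹ * n⁻¹ = g * (x * (g⁻¹ * n * g) * x⁻¹ * (g⁻¹ * n * g)⁻¹) * g⁻¹ := by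
        group
      rw [e]; exact h1
    refine sup_le (Block.le_normalizer_of_forall fun n hn x hx => ?_) ?_
    · obtain ⟨hx1, hx2⟩ := Subgroup.mem_inf.1 hx
      refine Subgroup.mem_inf.2 ⟨?_, conj_mem (hcq (hN.pc.le hn)) hx2⟩
      have e : n * x * n⁻¹ = (x * n * x⁻¹ * n⁻¹)⁻¹ * x := by group
      rw [e]
      exact mul_mem (inv_mem (hoB ((mem_cq.1 hx2).2 n hn))) hx1
    · exact (le_inf (Block.le_normalizer_o2 B) (hBM.trans hcq)).trans inf_normalizer_le_normalizer_inf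
  exact hK1 (Subgroup.mem_inf.2 ⟨ht, mem_cq.2 ⟨hNN t (hBM (Block.o2_le B ht)), hc⟩⟩)

omit [Finite G] in
include hN hBM in
/-- (1.1): `O₂(N B)` centralises `N / O₂(N)` -/
theorem o2_sup_comm [Finite G] {t : G} (ht : t ∈ o2 (N ⊔ B)) : ∀ n ∈ N, t * n * t⁻¹ * n⁻¹ ∈ o2 N := by
  intro n hn
  have h1 : o2 (N ⊔ B) ⊓ N ≤ o2 N := by
    refine Block.le_o2 ((Block.o2_isPGroup (N ⊔ B)).to_le inf_le_left) inf_le_right ?_
    refine (le_inf (le_sup_left.trans (Block.le_normalizer_o2 (N ⊔ B))) le_normalizer).trans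
      inf_normalizer_le_normalizer_inf
  apply h1
  have hnH := le_sup_left (b := B) hn
  refine Subgroup.mem_inf.2 ⟨?_, ?_⟩
  · have h2 := conj_mem (Block.le_normalizer_o2 (N ⊔ B) hnH) (inv_mem ht)
    have e : t * n * t⁻¹ * n⁻¹ = t * (n * t⁻¹ * n⁻¹) := by group
    rw [e]
    exact mul_mem ht h2
  · exact mul_mem (conj_mem (H_le_N hN hBM (Block.o2_le _ ht)) hn) (inv_mem hn)

/-! ### (1.3) -/

include h hI hN hBM hSB in
/-- **(1.3)**, from (Empty) for `X = N S`, `T = S` -/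
theorem comm_zc_of (hE : ∀ Y : Subgroup G, Y ≤ zc (o2 (N ⊔ (S : Subgroup G))) →
    N ⊔ (S : Subgroup G) ≤ normalizer (Y : Set G) →
    (∀ D : Subgroup G, D ≤ N ⊔ (S : Subgroup G) → N ⊔ (S : Subgroup G) ≤ normalizer (D : Set G) →
      (∀ d ∈ D, ∃ c ∈ centralizer (Y : Set G), ∃ t ∈ (S : Subgroup G), d = c * t) → D ≤ centralizer (Y : Set G)) →
    jj (S : Subgroup G) ≤ centralizer (Y : Set G)) :
    N ≤ centralizer (zc (o2 (N ⊔ B)) : Set G) := by
  have hHM := H_le hN hBM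
  have hXH : N ⊔ (S : Subgroup G) ≤ N ⊔ B := sup_le_sup_left hSB N
  have hXM := hXH.trans hHM
  have hoM : o2 (normalizer (I : Set G)) ≤ o2 (N ⊔ B) := o2M_le_H hN hSB hBM
  have hoN := o2N_le_H hN hSB hBM
  have hQQ : o2 (N ⊔ B) ≤ o2 (N ⊔ (S : Subgroup G)) := o2_le_o2 S le_sup_right hXH
  obtain ⟨Y₁, hY₁⟩ : ∃ Y₁ : Subgroup G, Y₁ = zc (o2 (N ⊔ B)) := ⟨_, rfl⟩
  obtain ⟨R, hR⟩ : ∃ R : Subgroup G, R = o2 (N ⊔ (S : Subgroup G)) := ⟨_, rfl⟩
  have hR2 : IsPGroup 2 R := by rw [hR]; exact Block.o2_isPGroup _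
  have hY₁Q : Y₁ ≤ o2 (N ⊔ B) := by rw [hY₁]; exact Block.zc_le _
  have hYc : ∀ q ∈ o2 (N ⊔ B), ∀ y ∈ Y₁, q * y = y * q := by
    intro q hq y hy
    rw [hY₁] at hy
    exact (mem_zc.1 hy).2.2 q hq
  have hYsq : ∀ y ∈ Y₁, y * y = 1 := by
    intro y hy
    rw [hY₁] at hy
    rw [← pow_two]; exact (mem_zc.1 hy).2.1
  have hXY₁ : N ⊔ (S : Subgroup G) ≤ normalizer (Y₁ : Set G) := by
    rw [hY₁]
    exact hXH.trans ((Block.le_normalizer_o2 _).trans (VModule.normalizer_le_normalizer_zc _))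
  have hXR : N ⊔ (S : Subgroup G) ≤ normalizer ((centralizer (R : Set G) : Subgroup G) : Set G) := by
    intro x hx
    rw [mem_normalizer_iff_cj, cj_centralizer, hR, mem_normalizer_iff_cj.1 (Block.le_normalizer_o2 _ hx)]
  obtain ⟨Y₂, hY₂⟩ : ∃ Y₂ : Subgroup G, Y₂ = Y₁ ⊓ centralizer (R : Set G) := ⟨_, rfl⟩
  have hY₂Y : Y₂ ≤ Y₁ := hY₂ ▸ inf_le_left
  have hXY₂ : N ⊔ (S : Subgroup G) ≤ normalizer (Y₂ : Set G) := by
    rw [hY₂]
    exact (le_inf hXY₁ hXR).trans inf_normalizer_le_normalizer_inf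
  have hRY₂ : ∀ q ∈ R, ∀ y ∈ Y₂, q * y = y * q := by
    intro q hq y hy
    rw [hY₂] at hy
    exact mem_centralizer_iff.1 hy.2 q hq
  have hNM := hN.pc.norm
  -- step A
  have hA : N ≤ centralizer (Y₂ : Set G) := by
    by_contra hne
    have hK2 : IsPGroup 2 (N ⊓ centralizer (Y₂ : Set G) : Subgroup G) := by
      have hn : N ≤ normalizer ((N ⊓ centralizer (Y₂ : Set G) : Subgroup G) : Set G) := by
        refine (le_inf le_normalizer ?_).trans inf_normalizer_le_normalizer_inf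
        intro x hx
        rw [mem_normalizer_iff_cj, cj_centralizer, mem_normalizer_iff_cj.1 (hXY₂ (mem_sup_left hx))]
      rcases pc_min h.hyp.cyc hN.pc inf_le_left hn with h1 | h1
      · exact h1
      · exact absurd (inf_eq_left.1 h1) hne
    have hK3 : (N ⊓ centralizer (Y₂ : Set G) : Subgroup G) ≤ o2 N := by
      refine Block.le_o2 hK2 inf_le_left ?_
      refine (le_inf le_normalizer ?_).trans inf_normalizer_le_normalizer_inf
      intro x hx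
      rw [mem_normalizer_iff_cj, cj_centralizer, mem_normalizer_iff_cj.1 (hXY₂ (mem_sup_left hx))]
    have hCn : N ⊔ (S : Subgroup G) ≤ normalizer ((centralizer (Y₂ : Set G) : Subgroup G) : Set G) := by
      intro x hx
      rw [mem_normalizer_iff_cj, cj_centralizer, mem_normalizer_iff_cj.1 (hXY₂ hx)]
    refine hne (hN.comm_of_le h hI ?_ (le_sup_left.trans hXY₂))
    refine hE Y₂ ?_ hXY₂ ?_
    · intro y hy
      have h1 := hY₂Y hy
      refine mem_zc.2 ⟨hQQ (hY₁Q h1), by rw [pow_two]; exact hYsq y h1, ?_⟩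
      rw [← hR]
      exact fun q hq => hRY₂ q hq y hy
    · intro D hDX hDn hD d hd
      obtain ⟨c, hc, t, ht, e⟩ := hD d hd
      have hXN : N ⊔ (S : Subgroup G) ≤ normalizer (N : Set G) := hXM.trans hNM
      -- `[N, D] ≤ O₂(N)`
      have hE : ⁅N, D⁆ ≤ o2 N := by
        have h1 : ⁅N, D⁆ ≤ N := by
          rw [commutator_le]
          intro n hn x hx
          rw [commutatorElement_def]
          have e : n * x * n⁻¹ * x⁻¹ = n * (x * n⁻¹ * x⁻¹) := by group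
          rw [e]
          exact mul_mem hn (conj_mem (hXN (hDX hx)) (inv_mem hn))
        have h2 : N ≤ normalizer ((⁅N, D⁆ : Subgroup G) : Set G) := normalizer_commutator_ge_left N D
        rcases pc_min h.hyp.cyc hN.pc h1 h2 with h3 | h3
        · exact Block.le_o2 h3 h1 h2
        · exfalso
          have h4 : N ≤ D := by
            rw [← h3, commutator_le]
            intro n hn x hx
            rw [commutatorElement_def]
            exact mul_mem (conj_mem (hDn (mem_sup_left hn)) hx) (inv_mem hx)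
          apply hne
          refine pc_gen h.hyp.cyc hN.pc fun x hx ho => ?_
          obtain ⟨c, hc, t, ht, e⟩ := hD x (h4 hx)
          have htn := hCn (mem_sup_right ht)
          obtain ⟨k, hk⟩ := S.isPGroup' ⟨t, ht⟩
          have hk' : t ^ 2 ^ k = 1 := congrArg Subtype.val hk
          have h5 := pow_mul_mem htn (conj_mem' htn hc) (2 ^ k)
          have e1 : t * (t⁻¹ * c * t) = x := by rw [e]; group
          rw [e1, hk', inv_one, mul_one] at h5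
          refine UniStruct.mem_of_pow_coprime ?_ h5
          exact Nat.Coprime.pow_right k ho.coprime_two_right
      have htR : t ∈ R := by
        rw [hR]
        refine mem_o2_sup hN le_rfl hI.S_le (Block.le_o2 S.isPGroup' le_rfl le_normalizer ht) fun n hn => ?_
        have hcX : c ∈ N ⊔ (S : Subgroup G) := by
          have e1 : c = d * t⁻¹ := by rw [e]; group
          rw [e1]
          exact mul_mem (hDX hd) (inv_mem (mem_sup_right ht))
        have h1 : d * n * d⁻¹ * n⁻¹ ∈ o2 N := by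
          have h2 := hE (commutator_mem_commutator hn hd)
          rw [commutatorElement_def] at h2
          have e1 : d * n * d⁻¹ * n⁻¹ = (n * d * n⁻¹ * d⁻¹)⁻¹ := by group
          rw [e1]; exact inv_mem h2
        have h2 : c⁻¹ * n * c * n⁻¹ ∈ o2 N := by
          apply hK3
          refine Subgroup.mem_inf.2 ⟨?_, ?_⟩
          · have h3 := conj_mem' (hXN hcX) hn
            exact mul_mem h3 (inv_mem hn)
          · have h3 := conj_mem (hCn (mem_sup_left hn)) hc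
            have e1 : c⁻¹ * n * c * n⁻¹ = c⁻¹ * (n * c * n⁻¹) := by group
            rw [e1]
            exact mul_mem (inv_mem hc) h3
        have e1 : t * n * t⁻¹ * n⁻¹ = (c⁻¹ * (d * n * d⁻¹ * n⁻¹) * c) * (c⁻¹ * n * c * n⁻¹) := by
          have e2 : t = c⁻¹ * d := by rw [e]; group
          rw [e2]; group
        rw [e1]
        exact mul_mem (conj_mem' (normalizer_le_o2 N (hXN hcX)) h1) h2
      rw [e]
      refine mul_mem hc (mem_centralizer_iff.2 fun y hy => ?_)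
      exact (hRY₂ t htR y hy).symm
  -- step B
  rw [← hY₁]
  refine pc_centralizer h.hyp.cyc hN.pc fun x hx ho d hd => ?_
  have hxY : ∀ y ∈ Y₁, x * y * x⁻¹ ∈ Y₁ := fun y hy => conj_mem (hXY₁ (mem_sup_left hx)) hy
  have hYY : ∀ y ∈ Y₁, ∀ z ∈ Y₁, y * z = z * y := fun y hy z hz => hYc y (hY₁Q hy) z hz
  let D : Subgroup G :=
    { carrier := {d | ∃ y ∈ Y₁, d = y * x * y⁻¹ * x⁻¹}
      one_mem' := ⟨1, one_mem _, by group⟩
      mul_mem' := by
        rintro _ _ ⟨y, hy, rfl⟩ ⟨z, hz, rfl⟩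
        refine ⟨y * z, mul_mem hy hz, ?_⟩
        have h1 := hYY _ (hxY _ (inv_mem hy)) z hz
        calc y * x * y⁻¹ * x⁻¹ * (z * x * z⁻¹ * x⁻¹) = y * ((x * y⁻¹ * x⁻¹) * z) * x * z⁻¹ * x⁻¹ := by group
          _ = y * (z * (x * y⁻¹ * x⁻¹)) * x * z⁻¹ * x⁻¹ := by rw [h1]
          _ = y * z * x * (z * y)⁻¹ * x⁻¹ := by group
          _ = y * z * x * (y * z)⁻¹ * x⁻¹ := by rw [hYY z hz y hy]
      inv_mem' := by
        rintro _ ⟨y, hy, rfl⟩
        refine ⟨y⁻¹, inv_mem hy, ?_⟩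
        have h1 := hYY _ (hxY _ hy) _ (inv_mem hy)
        calc (y * x * y⁻¹ * x⁻¹)⁻¹ = (x * y * x⁻¹) * y⁻¹ := by group
          _ = y⁻¹ * (x * y * x⁻¹) := h1
          _ = y⁻¹ * x * y⁻¹⁻¹ * x⁻¹ := by group }
  have hDY : D ≤ Y₁ := by
    rintro _ ⟨y, hy, rfl⟩
    have e : y * x * y⁻¹ * x⁻¹ = y * (x * y⁻¹ * x⁻¹) := by group
    rw [e]
    exact mul_mem hy (hxY _ (inv_mem hy))
  have hRD : R ≤ normalizer (D : Set G) := by
    refine Block.le_normalizer_of_forall ?_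
    rintro q hq _ ⟨y, hy, rfl⟩
    rw [hR] at hq
    have hqX : q ∈ N ⊔ (S : Subgroup G) := Block.o2_le _ hq
    have hw := hoN (o2_sup_comm hN hI.S_le hq x hx)
    have hy' := conj_mem (hXY₁ hqX) hy
    refine ⟨q * y * q⁻¹, hy', ?_⟩
    obtain ⟨w, hw'⟩ : ∃ w, w = q * x * q⁻¹ * x⁻¹ := ⟨_, rfl⟩
    obtain ⟨y', hy''⟩ : ∃ y', y' = q * y * q⁻¹ := ⟨_, rfl⟩
    rw [← hw'] at hw
    rw [← hy''] at hy' ⊢
    have e1 : q * x * q⁻¹ = w * x := by rw [hw']; group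
    have h1 := hYc w hw y' hy'
    have h2 := hYc w hw _ (hxY _ (inv_mem hy'))
    calc q * (y * x * y⁻¹ * x⁻¹) * q⁻¹ = (q * y * q⁻¹) * (q * x * q⁻¹) * (q * y * q⁻¹)⁻¹ * (q * x * q⁻¹)⁻¹ := by group
      _ = y' * (w * x) * y'⁻¹ * (w * x)⁻¹ := by rw [e1, ← hy'']
      _ = y' * (w * (x * y'⁻¹ * x⁻¹)) * w⁻¹ := by group
      _ = y' * ((x * y'⁻¹ * x⁻¹) * w) * w⁻¹ := by rw [h2]
      _ = y' * x * y'⁻¹ * x⁻¹ := by group
  have hD1 : D = ⊥ := by
    by_contra hD1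
    have hD2 : IsPGroup 2 D := (Block.o2_isPGroup _).to_le (hDY.trans hY₁Q)
    obtain ⟨v, hv, hv1, hv2⟩ := EmpNSBase.exists_fix hR2 hD2 hRD (F := ⊥) (by
      intro q _
      rw [mem_normalizer_iff_cj]
      exact Subgroup.map_bot _) (by
      intro q _
      rw [mem_normalizer_iff_cj]
      exact Subgroup.map_bot _) bot_le (Ne.symm hD1)
    have hv3 : v ∈ Y₂ := by
      rw [hY₂]
      refine Subgroup.mem_inf.2 ⟨hDY hv, mem_centralizer_iff.2 fun q hq => ?_⟩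
      have h1 := Subgroup.mem_bot.1 (hv2 q hq)
      rw [mul_inv_eq_one, mul_inv_eq_iff_eq_mul] at h1
      exact h1
    have hv4 := mem_centralizer_iff.1 (hA hx) v hv3
    obtain ⟨y, hy, rfl⟩ := hv
    have h1 := comm_of_odd ho hv4.symm (hYsq _ (hDY ⟨y, hy, rfl⟩))
    apply hv1
    rw [Subgroup.mem_bot, h1]
    group
  have h1 : d * x * d⁻¹ * x⁻¹ ∈ D := ⟨d, hd, rfl⟩
  rw [hD1, Subgroup.mem_bot, mul_inv_eq_one, mul_inv_eq_iff_eq_mul] at h1
  exact h1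

end BB

/-! ### (F4') for elements of `V` -/

section F4

variable (h : ENS S) (hI : TIData (S : Subgroup G) I) (hN : JP (S : Subgroup G) I N)

include h hI hN in
/-- (F4') -/
theorem cent_le {v : G} (hv : v ∈ vv (S : Subgroup G)) (hv1 : v ≠ 1) (hc : ∀ n ∈ N, n * v = v * n) :
    centralizer ({v} : Set G) ≤ normalizer (I : Set G) :=
  (hN.centralizer_le h hI (vv_le_zj _ hv) hv1 fun n hn => by
    rw [mem_centralizer_singleton_iff]; exact hc n hn).1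

include h hI hN in
/-- (UN) -/
theorem eq_of_comm {v : G} (hv : v ∈ vv (S : Subgroup G)) (hv1 : v ≠ 1) (hc : ∀ n ∈ N, n * v = v * n) {g : G}
    (hg : ∀ n ∈ cj g N, n * v = v * n) : cj g N = N := by
  have h1 : cj g N ≤ normalizer (I : Set G) := by
    refine le_trans ?_ (cent_le h hI hN hv hv1 hc)
    intro n hn
    rw [mem_centralizer_singleton_iff]; exact hg n hn
  have h2 : N ≤ cj g⁻¹ (normalizer (I : Set G)) := by
    have := cj_mono g⁻¹ h1
    rwa [cj_inv_cj] at this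
  have h3 := hN.uniq h hI h2
  rw [← h3, cj_cj_inv, h3]

include h hI hN in
theorem mem_of_comm {v : G} (hv : v ∈ vv (S : Subgroup G)) (hv1 : v ≠ 1) (hc : ∀ n ∈ N, n * v = v * n) {g : G}
    (hg : ∀ n ∈ cj g N, n * v = v * n) : g ∈ normalizer (I : Set G) := by
  rw [← hN.normalizer_eq h hI, mem_normalizer_iff_cj]
  exact eq_of_comm h hI hN hv hv1 hc hg

end F4

section F4F

variable (h : ENS S) (hI : TIData (S : Subgroup G) I) (hN : JP (S : Subgroup G) I N)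

include h hI hN in
/-- `C_G(F) ≤ M` if `C_F(N) ≠ 1` -/
theorem cent_F_le {F : Subgroup G} (FV : F ≤ vv (S : Subgroup G)) {u : G} (hu : u ∈ F) (hu1 : u ≠ 1)
    (hc : ∀ n ∈ N, n * u = u * n) : centralizer (F : Set G) ≤ normalizer (I : Set G) := by
  refine le_trans ?_ (cent_le h hI hN (FV hu) hu1 hc)
  intro x hx
  rw [mem_centralizer_singleton_iff]
  exact (mem_centralizer_iff.1 hx u hu).symm

include h hI hN in
/-- `C_G(F) ≤ M` if `Ω₁Z(S) ∩ F ≠ 1` -/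
theorem cent_F_le' {F : Subgroup G} (FV : F ≤ vv (S : Subgroup G)) {z : G} (hz : z ∈ F) (hz1 : z ≠ 1)
    (hzS : z ∈ zc (S : Subgroup G)) : centralizer (F : Set G) ≤ normalizer (I : Set G) :=
  cent_F_le h hI hN FV hz hz1 fun _ hn =>
    (mem_centralizer_iff.1 (hN.le_centralizer h hI hn) z (hI.zc_le hzS)).symm

end F4F

/-! ### Lines -/

/-- A line: `1 ≠ F ≤ V`, `S ≤ P ≤ N_G(F)`, `P ≰ M`, `O₂(P) = C_S(F)`. -/
structure Ln (S : Sylow 2 G) (I N F P : Subgroup G) : Prop where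
  h : ENS S
  hI : TIData (S : Subgroup G) I
  hN : JP (S : Subgroup G) I N
  FV : F ≤ vv (S : Subgroup G)
  ne : F ≠ ⊥
  SP : (S : Subgroup G) ≤ P
  PF : P ≤ normalizer (F : Set G)
  nM : ¬ P ≤ normalizer (I : Set G)
  o2P : o2 P = (S : Subgroup G) ⊓ centralizer (F : Set G)

/-- existence of `P` -/
theorem exists_ln (h : ENS S) (hI : TIData (S : Subgroup G) I) (hN : JP (S : Subgroup G) I N) {F P₀ : Subgroup G}
    (FV : F ≤ vv (S : Subgroup G)) (ne : F ≠ ⊥) (SP : (S : Subgroup G) ≤ P₀) (PF : P₀ ≤ normalizer (F : Set G))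
    (nM : ¬ P₀ ≤ normalizer (I : Set G)) (hC : P₀ ⊓ centralizer (F : Set G) ≤ normalizer (I : Set G))
    (hred : ∀ D : Subgroup G, D ≤ P₀ → P₀ ≤ normalizer (D : Set G) →
      (∀ d ∈ D, ∃ c ∈ centralizer (F : Set G), ∃ t ∈ (S : Subgroup G), d = c * t) → D ≤ centralizer (F : Set G)) :
    Ln S I N F (P₀ ⊓ normalizer (((S : Subgroup G) ⊓ centralizer (F : Set G) : Subgroup G) : Set G)) := by
  obtain ⟨C, hCd⟩ : ∃ C : Subgroup G, C = P₀ ⊓ centralizer (F : Set G) := ⟨_, rfl⟩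
  have hPC : P₀ ≤ normalizer ((centralizer (F : Set G) : Subgroup G) : Set G) := by
    intro x hx
    rw [mem_normalizer_iff_cj, cj_centralizer, mem_normalizer_iff_cj.1 (PF hx)]
  have hCn : P₀ ≤ normalizer (C : Set G) := by
    rw [hCd]
    exact (le_inf le_normalizer hPC).trans inf_normalizer_le_normalizer_inf
  have hSC : (S : Subgroup G) ⊓ C = (S : Subgroup G) ⊓ centralizer (F : Set G) := by
    rw [hCd]
    exact le_antisymm (inf_le_inf_left _ inf_le_right) (le_inf inf_le_left (inf_le_inf_right _ SP))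
  have hfr := Basic.frattini SP S.isPGroup' (Basic.not_dvd_relIndex S SP) hCn
  rw [hSC] at hfr
  have hSP : (S : Subgroup G) ≤
      P₀ ⊓ normalizer (((S : Subgroup G) ⊓ centralizer (F : Set G) : Subgroup G) : Set G) := by
    refine le_inf SP ?_
    exact (le_inf le_normalizer (SP.trans hPC)).trans inf_normalizer_le_normalizer_inf
  obtain ⟨P, hP⟩ : ∃ P : Subgroup G, P =
    P₀ ⊓ normalizer (((S : Subgroup G) ⊓ centralizer (F : Set G) : Subgroup G) : Set G) := ⟨_, rfl⟩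
  rw [← hP] at hfr hSP ⊢
  have hPP : P ≤ P₀ := hP ▸ inf_le_left
  refine ⟨h, hI, hN, FV, ne, hSP, hPP.trans PF, fun h1 => nM (hfr.trans (sup_le (by rw [hCd]; exact hC) h1)), ?_⟩
  have hoS : o2 P ≤ (S : Subgroup G) := o2_le_sylow S hSP
  apply le_antisymm
  · refine le_inf hoS ?_
    have h1 : C ⊔ o2 P ≤ centralizer (F : Set G) := by
      refine hred (C ⊔ o2 P) (sup_le (hCd ▸ inf_le_left) ((Block.o2_le P).trans hPP)) ?_ ?_
      · refine hfr.trans (sup_le ?_ ?_)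
        · exact le_sup_left.trans le_normalizer
        · intro x hx
          have h2 := mem_normalizer_iff_cj.1 (hCn (hPP hx))
          have h3 := mem_normalizer_iff_cj.1 (Block.le_normalizer_o2 P hx)
          rw [mem_normalizer_iff_cj]
          show Subgroup.map (MulAut.conj x).toMonoidHom (C ⊔ o2 P) = C ⊔ o2 P
          rw [Subgroup.map_sup]
          exact congrArg₂ (· ⊔ ·) h2 h3
      · intro d hd
        rw [← SetLike.mem_coe, sup_comm, Subgroup.coe_mul_of_left_le_normalizer_right _ _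
          (((Block.o2_le P).trans hPP).trans hCn)] at hd
        obtain ⟨t, ht, c, hc, rfl⟩ := hd
        have hc' : c ∈ centralizer (F : Set G) := by
          have : c ∈ C := hc
          rw [hCd] at this
          exact this.2
        refine ⟨t * c * t⁻¹, conj_mem (hPC (hPP (Block.o2_le P ht))) hc', t, hoS ht, by group⟩
    exact le_sup_right.trans h1
  · refine Block.le_o2 (S.isPGroup'.to_le inf_le_left) (inf_le_left.trans hSP) ?_
    rw [hP]
    exact inf_le_right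

/-- `B = P ∩ M` -/
abbrev bb (I P : Subgroup G) : Subgroup G := P ⊓ normalizer (I : Set G)

/-- `Y = C_F(N)` -/
abbrev yy (N F : Subgroup G) : Subgroup G := F ⊓ centralizer (N : Set G)

namespace Ln

variable {F P : Subgroup G} (L : Ln S I N F P)
include L

theorem SB : (S : Subgroup G) ≤ bb I P := le_inf L.SP L.hI.S_le

omit L in
theorem BM : bb I P ≤ normalizer (I : Set G) := inf_le_right

theorem HM : N ⊔ bb I P ≤ normalizer (I : Set G) := H_le L.hN BM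

theorem Fsq : ∀ x ∈ F, x * x = 1 := fun _ hx => vv_mul_self (L.FV hx)

theorem Fcomm {x y : G} (hx : x ∈ F) (hy : y ∈ F) : x * y = y * x := comm_of_sq L.Fsq hx hy

theorem NY : ∀ y ∈ yy N F, ∀ n ∈ N, n * y = y * n := fun _ hy n hn => mem_centralizer_iff.1 hy.2 n hn

omit L in
theorem mem_Y {y : G} (hy : y ∈ F) (hc : ∀ n ∈ N, n * y = y * n) : y ∈ yy N F :=
  Subgroup.mem_inf.2 ⟨hy, mem_centralizer_iff.2 hc⟩

theorem F_le_o2P : F ≤ o2 P := by
  rw [L.o2P]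
  refine le_inf (L.FV.trans vv_le) fun x hx => mem_centralizer_iff.2 fun y hy => L.Fcomm hy hx

theorem o2P_ne_bot : o2 P ≠ ⊥ := fun h0 => L.ne (le_bot_iff.1 (h0 ▸ L.F_le_o2P))

theorem BY : bb I P ≤ normalizer (yy N F : Set G) := by
  refine (le_inf (inf_le_left.trans L.PF) ?_).trans inf_normalizer_le_normalizer_inf
  intro x hx
  rw [mem_normalizer_iff_cj, cj_centralizer, mem_normalizer_iff_cj.1 (L.hN.pc.norm (BM hx))]

/-- (1.2) -/
theorem nl {K : Subgroup G} (hK : IsPGroup 2 K) (hP : P ≤ normalizer (K : Set G)) (hN : N ≤ normalizer (K : Set G)) :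
    K = ⊥ := by
  by_contra hne
  refine L.nM (hP.trans (L.hN.le_of_sylow L.h L.hI (UniStruct.o2_normalizer_ne_bot hK hne) (L.SP.trans hP) hN))

/-- **the hypotheses of section 2** -/
theorem lf (lp3 : ∀ x ∈ F, ∀ t ∈ o2 (bb I P), t * x * t⁻¹ * x⁻¹ ∈ yy N F) : LF F P (bb I P) N (yy N F) where
  BP := inf_le_left
  BN := BM.trans L.hN.pc.norm
  PH := inf_le_inf_left _ L.HM
  PF := L.PF
  Fsq := L.Fsq
  YF := inf_le_left
  NY := L.NY
  BY := L.BY
  FR := L.F_le_o2P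
  cF := fun t ht x hx => by
    rw [L.o2P] at ht
    exact (mem_centralizer_iff.1 ht.2 x hx).symm
  cT := fun t ht hc => by
    rw [L.o2P]
    exact Subgroup.mem_inf.2 ⟨o2_le_sylow S L.SB ht, mem_centralizer_iff.2 fun x hx => (hc x hx).symm⟩
  PB := (o2_le_sylow S L.SP).trans L.SB
  HB := (o2_le_sylow S (L.SB.trans le_sup_right)).trans L.SB
  cN := fun t ht hc => mem_o2_sup L.hN L.SB BM ht hc
  cP := Basic.char2_of_o2_ne_bot L.h.hyp.char2 S L.SP L.o2P_ne_bot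
  cH := char2_H L.h L.hI L.hN L.SB BM
  nl := fun _ hK _ hP hH => L.nl hK hP (le_sup_left.trans hH)
  UN := fun g hg x hx hx' => by
    by_contra hx1
    refine hg (eq_of_comm L.h L.hI L.hN (L.FV hx.1) hx1 (L.NY x hx) fun n hn => ?_)
    rw [mem_cj] at hn hx'
    have h1 := L.NY _ hx' _ hn
    calc n * x = g * (g⁻¹ * n * g * (g⁻¹ * x * g)) * g⁻¹ := by group
      _ = g * (g⁻¹ * x * g * (g⁻¹ * n * g)) * g⁻¹ := by rw [h1]
      _ = x * n := by group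
  lp3 := lp3

/-! ### (1.4) -/

/-- (1.4) `F ≰ Y` -/
theorem not_F_le : ¬ F ≤ centralizer (N : Set G) := by
  intro hc
  obtain ⟨u, hu, hu1⟩ := F.bot_or_exists_ne_one.resolve_left L.ne
  have hN : ∀ x ∈ F, ∀ n ∈ N, n * x = x * n := fun x hx n hn => mem_centralizer_iff.1 (hc hx) n hn
  apply L.nM
  intro g hg
  refine mem_of_comm L.h L.hI L.hN (L.FV hu) hu1 (hN u hu) fun n hn => ?_
  rw [mem_cj] at hn
  have h1 := hN _ (conj_mem' (L.PF hg) hu) _ hn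
  calc n * u = g * (g⁻¹ * n * g * (g⁻¹ * u * g)) * g⁻¹ := by group
    _ = g * (g⁻¹ * u * g * (g⁻¹ * n * g)) * g⁻¹ := by rw [h1]
    _ = u * n := by group

theorem exists_not_mem_Y : ∃ v ∈ F, v ∉ yy N F := by
  by_contra hcon
  push Not at hcon
  exact L.not_F_le fun x hx => (hcon x hx).2

/-- (1.4) `[v, N] ≰ Y` for `v ∈ F - Y` -/
theorem exists_comm {v : G} (hv : v ∈ F) (hv1 : v ∉ yy N F) : ∃ n ∈ N, v * n * v⁻¹ * n⁻¹ ∉ yy N F := by
  by_contra hcon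
  push Not at hcon
  have h1 := pc_comm_of L.h.hyp.cyc L.hN.pc (Y := yy N F) (fun y hy => L.Fsq y hy.1) L.NY hcon
  exact hv1 (mem_Y hv fun n hn => (h1 n hn).symm)

/-! ### (1.5) -/

/-- (1.5) `Y ∩ Y^g = 1` for `g ∈ P - M`; more generally for `g ∉ M` -/
theorem inf_eq_bot {g : G} (hg : g ∉ normalizer (I : Set G)) : yy N F ⊓ cj g (yy N F) = ⊥ := by
  rw [eq_bot_iff]
  intro x hxx
  obtain ⟨hx, hx'⟩ := Subgroup.mem_inf.1 hxx
  by_contra hx1
  refine hg (mem_of_comm L.h L.hI L.hN (L.FV hx.1) (fun h0 => hx1 (by rw [h0]; exact one_mem _)) (L.NY x hx)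
    fun n hn => ?_)
  rw [mem_cj] at hx' hn
  have h1 := L.NY _ hx' _ hn
  calc n * x = g * (g⁻¹ * n * g * (g⁻¹ * x * g)) * g⁻¹ := by group
    _ = g * (g⁻¹ * x * g * (g⁻¹ * n * g)) * g⁻¹ := by rw [h1]
    _ = x * n := by group

omit L in
theorem exists_not_mem (hP : ¬ P ≤ normalizer (I : Set G)) : ∃ g ∈ P, g ∉ normalizer (I : Set G) := by
  by_contra hcon
  push Not at hcon
  exact hP hcon

/-- the product map `Y × Y^g → F` -/
theorem inj {g : G} (hg : g ∉ normalizer (I : Set G)) :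
    Function.Injective fun y : yy N F × cj g (yy N F) => (y.1 : G) * (y.2 : G) := by
  rintro ⟨⟨a, ha⟩, ⟨b, hb⟩⟩ ⟨⟨c, hc⟩, ⟨d, hd⟩⟩ e
  have e' : a * b = c * d := e
  have h1 : c⁻¹ * a = d * b⁻¹ := by
    calc c⁻¹ * a = c⁻¹ * (a * b) * b⁻¹ := by group
      _ = d * b⁻¹ := by rw [e']; group
  have h2 : c⁻¹ * a ∈ yy N F ⊓ cj g (yy N F) :=
    Subgroup.mem_inf.2 ⟨mul_mem (inv_mem hc) ha, by rw [h1]; exact mul_mem hd (inv_mem hb)⟩
  rw [L.inf_eq_bot hg, Subgroup.mem_bot] at h2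
  rw [h2] at h1
  have e1 : a = c := by
    calc a = c * (c⁻¹ * a) := by group
      _ = c := by rw [h2, mul_one]
  have e2 : b = d := by
    calc b = 1 * b := (one_mul b).symm
      _ = d := by rw [h1]; group
  subst e1; subst e2; rfl

theorem cjY_le {g : G} (hg : g ∈ P) : cj g (yy N F) ≤ F := by
  have h1 := cj_mono g (inf_le_left (a := F) (b := centralizer (N : Set G)))
  rwa [mem_normalizer_iff_cj.1 (L.PF hg)] at h1

/-- (1.5) `|Y|² ≤ |F|` -/
theorem card_sq_le : Nat.card (yy N F) ^ 2 ≤ Nat.card F := by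
  obtain ⟨g, hg, hgM⟩ := exists_not_mem L.nM
  have h1 := Nat.card_le_card_of_injective (fun y : yy N F × cj g (yy N F) =>
    (⟨(y.1 : G) * (y.2 : G), mul_mem y.1.2.1 (L.cjY_le hg y.2.2)⟩ : F)) (by
      intro a b e
      exact L.inj hgM (congrArg Subtype.val e))
  rw [Nat.card_prod, card_cj, ← pow_two] at h1
  exact h1

/-- `F = Y Y^g` if `|F| = |Y|²` -/
theorem mem_mul (hc : Nat.card F = Nat.card (yy N F) ^ 2) {g : G} (hg : g ∈ P) (hgM : g ∉ normalizer (I : Set G))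
    {x : G} (hx : x ∈ F) : ∃ a ∈ yy N F, ∃ b ∈ cj g (yy N F), x = a * b := by
  have hinj : Function.Injective (fun y : yy N F × cj g (yy N F) =>
    (⟨(y.1 : G) * (y.2 : G), mul_mem y.1.2.1 (L.cjY_le hg y.2.2)⟩ : F)) := by
      intro a b e
      exact L.inj hgM (congrArg Subtype.val e)
  have hb := (Nat.bijective_iff_injective_and_card _).2 ⟨hinj, by
    rw [Nat.card_prod, card_cj, ← pow_two, hc]⟩
  obtain ⟨⟨⟨a, ha⟩, ⟨b, hb⟩⟩, e⟩ := hb.2 ⟨x, hx⟩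
  exact ⟨a, ha, b, hb, (congrArg Subtype.val e).symm⟩

/-- (1.5) `Ω₁Z(S) ∩ F ≤ Y` -/
theorem zc_le_Y {z : G} (hz : z ∈ zc (S : Subgroup G)) (hzF : z ∈ F) : z ∈ yy N F := by
  refine mem_Y hzF fun n hn => ?_
  exact (mem_centralizer_iff.1 (L.hN.le_centralizer L.h L.hI hn) z (L.hI.zc_le hz)).symm

/-! ### (1.6) -/

/-- **(1.6) (St+)** -/
theorem comm_F_of (hc : Nat.card F = Nat.card (yy N F) ^ 2)
    (hU : ∀ v ∈ F, v ∈ yy N F ∨ ∃ g ∈ P, v ∈ cj g (yy N F)) {x : G} (hx : x ∈ N) {p : ℕ} (hp : p.Prime) (hp2 : p ≠ 2)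
    (hxp : orderOf x = p) {v : G} (hv : v ∈ F) (hv1 : v ∉ yy N F) (hxv : x * v = v * x) :
    ∀ u ∈ F, x * u = u * x := by
  obtain ⟨g, hg, hvg⟩ := (hU v hv).resolve_left hv1
  have hvne : v ≠ 1 := fun h0 => hv1 (by rw [h0]; exact one_mem _)
  have hgM : g ∉ normalizer (I : Set G) := by
    intro hgM
    apply hv1
    have h1 := L.BY (Subgroup.mem_inf.2 ⟨hg, hgM⟩)
    rwa [← mem_normalizer_iff_cj.1 h1]
  -- `C_G(v) ≤ M^g`
  have h1 : centralizer ({v} : Set G) ≤ cj g (normalizer (I : Set G)) := by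
    have hv' : g⁻¹ * v * g ∈ yy N F := mem_cj.1 hvg
    have h2 := cent_le L.h L.hI L.hN (L.FV hv'.1) (fun h0 => hvne (by
      calc v = g * (g⁻¹ * v * g) * g⁻¹ := by group
        _ = 1 := by rw [h0]; group)) (L.NY _ hv')
    intro c hc
    rw [mem_cj]
    apply h2
    rw [mem_centralizer_singleton_iff] at hc ⊢
    calc g⁻¹ * c * g * (g⁻¹ * v * g) = g⁻¹ * (c * v) * g := by group
      _ = g⁻¹ * (v * c) * g := by rw [hc]
      _ = _ := by group
  have h2 : x ∈ cj g (normalizer (I : Set G)) := h1 (mem_centralizer_singleton_iff.2 hxv)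
  have h3 : x ∈ cj g N := by
    rw [mem_cj] at h2 ⊢
    refine mem_of_order L.h.hyp.cyc L.hN.pc hp hp2 ?_ h2 ?_
    · rw [← hxp]; exact Subgroup.orderOf_dvd_natCard _ hx
    · rw [← hxp]
      have := orderOf_injective (MulAut.conj g⁻¹).toMonoidHom (MulAut.conj g⁻¹).injective x
      rw [← this]
      simp
  intro u hu
  obtain ⟨a, ha, b, hb, rfl⟩ := L.mem_mul hc hg hgM hu
  have h4 := L.NY a ha x hx
  have h5 : x * b = b * x := by
    rw [mem_cj] at h3 hb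
    have h6 := L.NY _ hb _ h3
    calc x * b = g * (g⁻¹ * x * g * (g⁻¹ * b * g)) * g⁻¹ := by group
      _ = g * (g⁻¹ * b * g * (g⁻¹ * x * g)) * g⁻¹ := by rw [h6]
      _ = b * x := by group
  rw [← mul_assoc, h4, mul_assoc, h5, mul_assoc]

end Ln

/-! ### `W = ⟨F^N⟩` -/

omit [Finite G] in
/-- `{w ∈ N_G(Y) | [t, w] ∈ Y}` -/
def c1 (Y : Subgroup G) (t : G) : Subgroup G where
  carrier := {w | w ∈ normalizer (Y : Set G) ∧ t * w * t⁻¹ * w⁻¹ ∈ Y}
  one_mem' := ⟨one_mem _, by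
    have e : t * (1 : G) * t⁻¹ * 1⁻¹ = 1 := by group
    rw [e]; exact one_mem _⟩
  mul_mem' := by
    rintro v w ⟨hv1, hv2⟩ ⟨hw1, hw2⟩
    refine ⟨mul_mem hv1 hw1, ?_⟩
    have e : t * (v * w) * t⁻¹ * (v * w)⁻¹ = t * v * t⁻¹ * v⁻¹ * (v * (t * w * t⁻¹ * w⁻¹) * v⁻¹) := by group
    rw [e]
    exact mul_mem hv2 (conj_mem hv1 hw2)
  inv_mem' := by
    rintro w ⟨hw1, hw2⟩
    refine ⟨inv_mem hw1, ?_⟩
    have e : t * w⁻¹ * t⁻¹ * w⁻¹⁻¹ = w⁻¹ * (t * w * t⁻¹ * w⁻¹)⁻¹ * w := by group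
    rw [e]
    exact conj_mem' hw1 (inv_mem hw2)

/-- the output of (*) -/
structure Star (S : Sylow 2 G) (I N F P A : Subgroup G) (k h a a' c : ℕ) : Prop where
  Wcomm : ∀ x ∈ jcl F N, ∀ y ∈ jcl F N, x * y = y * x
  Wsq : ∀ x ∈ jcl F N, x * x = 1
  WQ : jcl F N ≤ o2 (N ⊔ bb I P)
  AS : A ≤ (S : Subgroup G)
  AF : ∀ t ∈ A, ∀ x ∈ F, t * x = x * t
  AP : A ≤ o2 P
  Acomm : ∀ x ∈ A, ∀ y ∈ A, x * y = y * x
  Asq : ∀ x ∈ A, x * x = 1
  cardA : Nat.card A = Nat.card (jcl F N)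
  AW : A ≤ normalizer (jcl F N : Set G)
  WA : jcl F N ≤ normalizer (A : Set G)
  sit : Sit N A (jcl F N) (yy N F)
  Acq : A ⊓ cq N = A ⊓ o2 (N ⊔ bb I P)
  nA : ¬ A ≤ cq N
  ia : (A ⊓ cq N).relIndex A = 2 ^ a
  ia' : (o2 (N ⊔ bb I P)).relIndex A = 2 ^ a
  one_le : 1 ≤ a
  a'_le : a' ≤ a
  kc : k * c ≤ a
  hc : c ≠ 0 → h ≤ a
  iW : (jcl F N ⊓ centralizer (A : Set G)).relIndex (jcl F N) ≤ 2 ^ (a' + c)
  iW' : (cw (jcl F N) (yy N F) A).relIndex (jcl F N) ≤ 2 ^ (a' + c)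

namespace Ln

variable {F P : Subgroup G} (L : Ln S I N F P)
include L

theorem HY : N ⊔ bb I P ≤ normalizer (yy N F : Set G) := by
  refine sup_le (fun n hn => ?_) L.BY
  rw [mem_normalizer_iff_cj]
  have h1 : ∀ y ∈ yy N F, n * y * n⁻¹ = y := fun y hy => by rw [L.NY y hy n hn, mul_inv_cancel_right]
  apply le_antisymm
  · rintro _ ⟨y, hy, rfl⟩
    show n * y * n⁻¹ ∈ _
    rw [h1 y hy]; exact hy
  · intro y hy
    rw [mem_cj]
    have h2 : n⁻¹ * y * n = y := by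
      calc n⁻¹ * y * n = n⁻¹ * (n * y * n⁻¹) * n := by rw [h1 y hy]
        _ = y := by group
    rw [h2]; exact hy

theorem F_le_H : F ≤ N ⊔ bb I P := (L.FV.trans vv_le).trans (L.SB.trans le_sup_right)

theorem W_le_H : jcl F N ≤ N ⊔ bb I P := jcl_le fun n hn => by
  have h1 := cj_mono n L.F_le_H
  rwa [mem_normalizer_iff_cj.1 (le_normalizer (le_sup_left (b := bb I P) hn))] at h1

omit L in
theorem F_le_W : F ≤ jcl F N := le_jcl _ _

theorem W_le_NY : jcl F N ≤ normalizer (yy N F : Set G) := L.W_le_H.trans L.HY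

/-- elements acting trivially on `N / O₂(N)` and on `F / Y` act trivially on `W / Y` -/
theorem triv_W (lp3 : ∀ x ∈ F, ∀ t ∈ o2 (bb I P), t * x * t⁻¹ * x⁻¹ ∈ yy N F) {t : G}
    (htN : ∀ n ∈ N, t * n * t⁻¹ * n⁻¹ ∈ o2 N) (htF : ∀ x ∈ F, t * x * t⁻¹ * x⁻¹ ∈ yy N F) :
    ∀ w ∈ jcl F N, t * w * t⁻¹ * w⁻¹ ∈ yy N F := by
  have hQT : o2 (N ⊔ bb I P) ≤ o2 (bb I P) := o2_le_o2 S L.SB le_sup_right
  -- `Q`
  have hQ : ∀ q ∈ o2 (N ⊔ bb I P), ∀ w ∈ jcl F N, q * w * q⁻¹ * w⁻¹ ∈ yy N F := by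
    intro q hq
    have h1 : jcl F N ≤ c1 (yy N F) q := jcl_le fun n hn => by
      rintro w hw
      have hw' := L.W_le_NY (cj_le_jcl hn hw)
      rw [mem_cj] at hw
      refine ⟨hw', ?_⟩
      have hnH : n ∈ N ⊔ bb I P := mem_sup_left hn
      have h2 := lp3 _ hw _ (hQT (conj_mem' (Block.le_normalizer_o2 _ hnH) hq))
      have h3 := conj_mem (L.HY hnH) h2
      have e : n * (n⁻¹ * q * n * (n⁻¹ * w * n) * (n⁻¹ * q * n)⁻¹ * (n⁻¹ * w * n)⁻¹) * n⁻¹ = q * w * q⁻¹ * w⁻¹ := by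
        group
      rwa [e] at h3
    exact fun w hw => (h1 hw).2
  have h1 : jcl F N ≤ c1 (yy N F) t := jcl_le fun n hn => by
    rintro w hw
    have hwW := cj_le_jcl hn hw
    have hw' := L.W_le_NY hwW
    rw [mem_cj] at hw
    refine ⟨hw', ?_⟩
    -- `w = n f n⁻¹`, `t n t⁻¹ = u n`
    obtain ⟨f, hf⟩ : ∃ f, f = n⁻¹ * w * n := ⟨_, rfl⟩
    obtain ⟨u, hu⟩ : ∃ u, u = t * n * t⁻¹ * n⁻¹ := ⟨_, rfl⟩
    obtain ⟨y, hy⟩ : ∃ y, y = t * f * t⁻¹ * f⁻¹ := ⟨_, rfl⟩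
    rw [← hf] at hw
    have hy1 : y ∈ yy N F := by rw [hy]; exact htF f hw
    have hu1 : u ∈ o2 N := by rw [hu]; exact htN n hn
    have huQ : u ∈ o2 (N ⊔ bb I P) := o2N_le_H L.hN L.SB BM hu1
    have h2 := hQ u huQ w hwW
    have h3 : u * n * y = y * (u * n) := L.NY y hy1 _ (mul_mem (Block.o2_le N hu1) hn)
    have e : t * w * t⁻¹ * w⁻¹ = y * (u * w * u⁻¹ * w⁻¹) := by
      have e1 : w = n * f * n⁻¹ := by rw [hf]; group
      calc t * w * t⁻¹ * w⁻¹ = (t * n * t⁻¹) * (t * f * t⁻¹) * (t * n * t⁻¹)⁻¹ * w⁻¹ := by rw [e1]; group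
        _ = (u * n) * (y * f) * (u * n)⁻¹ * w⁻¹ := by rw [hu, hy]; group
        _ = (u * n * y) * f * (u * n)⁻¹ * w⁻¹ := by group
        _ = y * (u * (n * f * n⁻¹) * u⁻¹ * w⁻¹) := by rw [h3]; group
        _ = y * (u * w * u⁻¹ * w⁻¹) := by rw [← e1]
    rw [e]
    exact mul_mem hy1 h2
  exact fun w hw => (h1 hw).2

/-- `Q` centralises `W / Y` -/
theorem Q_W (lp3 : ∀ x ∈ F, ∀ t ∈ o2 (bb I P), t * x * t⁻¹ * x⁻¹ ∈ yy N F) :
    ∀ q ∈ o2 (N ⊔ bb I P), ∀ w ∈ jcl F N, q * w * q⁻¹ * w⁻¹ ∈ yy N F := fun q hq =>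
  L.triv_W lp3 (o2_sup_comm L.hN BM hq) fun x hx => lp3 x hx q (o2_le_o2 S L.SB le_sup_right hq)

/-- the setting of (NOO) -/
theorem sit (lp3 : ∀ x ∈ F, ∀ t ∈ o2 (bb I P), t * x * t⁻¹ * x⁻¹ ∈ yy N F) (hW : ∀ x ∈ jcl F N, x * x = 1)
    {A : Subgroup G} (hA : A ≤ bb I P) (hsq : ∀ x ∈ A, x * x = 1) (hAW : A ≤ normalizer (jcl F N : Set G)) :
    Sit N A (jcl F N) (yy N F) where
  YW := inf_le_left.trans F_le_W
  WY := L.W_le_NY
  sqW := fun w hw => by rw [hW w hw]; exact one_mem _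
  NW := le_normalizer_jcl _ _
  NY := le_sup_left.trans L.HY
  AW := hAW
  AY := hA.trans L.BY
  AN := hA.trans (BM.trans L.hN.pc.norm)
  sq := hsq
  min := fun K hK hn => pc_min L.h.hyp.cyc L.hN.pc hK hn
  n2 := L.hN.pc.not_isPGroup
  triv := fun n hn w hw => L.Q_W lp3 n (o2N_le_H L.hN L.SB BM hn) w hw
  ne := by
    obtain ⟨v, hv, hv1⟩ := L.exists_not_mem_Y
    obtain ⟨n, hn, hnv⟩ := L.exists_comm hv hv1
    refine ⟨n, hn, v, F_le_W hv, fun h0 => hnv ?_⟩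
    have e : v * n * v⁻¹ * n⁻¹ = (n * v * n⁻¹ * v⁻¹)⁻¹ := by group
    rw [e]; exact inv_mem h0

/-- **(*)** -/
theorem star (lp3 : ∀ x ∈ F, ∀ t ∈ o2 (bb I P), t * x * t⁻¹ * x⁻¹ ∈ yy N F) {k h : ℕ}
    (kk : ∀ E : Subgroup G, E ≤ o2 (bb I P) → (∀ x ∈ E, x * x = 1) → ci F E ^ k ≤ ci E F)
    (hh : ∀ w ∈ o2 (bb I P), (∃ x ∈ F, w * x ≠ x * w) → 2 ^ h ≤ (centralizer {w}).relIndex F)
    (EV : ∀ y : G, cj y F ≤ o2 (bb I P) → F ≤ cj y (o2 (bb I P)) →
      (∀ x ∈ F, ∀ z ∈ cj y F, x * z * x⁻¹ * z⁻¹ ∈ yy N F ∧ x * z * x⁻¹ * z⁻¹ ∈ cj y (yy N F)) →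
        ∀ x ∈ F, ∀ z ∈ cj y F, x * z = z * x) :
    ∃ (A : Subgroup G) (a a' c : ℕ), Star S I N F P A k h a a' c := by
  obtain ⟨h1, h2, h3, y, h4, h5, h6, a, a', c, e1, e2, e3, e4, e5, e6⟩ := Line.main (L.lf lp3) L.ne kk hh EV
  have hAo : cj y (jcl F N) ≤ (S : Subgroup G) ⊓ centralizer (F : Set G) := by rwa [← L.o2P]
  have hAB : cj y (jcl F N) ≤ bb I P := (hAo.trans inf_le_left).trans L.SB
  have hAsq : ∀ x ∈ cj y (jcl F N), x * x = 1 := fun x hx => by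
    rw [mem_cj] at hx
    have h7 := h2 _ hx
    have e : x * x = y * (y⁻¹ * x * y * (y⁻¹ * x * y)) * y⁻¹ := by group
    rw [e, h7]; group
  have hAT : cj y (jcl F N) ≤ o2 (bb I P) := h4.trans (L.lf lp3).o2P_le
  have hsit := L.sit lp3 h2 hAB hAsq h5
  have hcq : cj y (jcl F N) ⊓ cq N = cj y (jcl F N) ⊓ o2 (N ⊔ bb I P) := by
    apply le_antisymm
    · refine le_inf inf_le_left fun x hx => ?_
      obtain ⟨hx1, hx2⟩ := Subgroup.mem_inf.1 hx
      exact mem_o2_sup L.hN L.SB BM (hAT hx1) (mem_cq.1 hx2).2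
    · refine le_inf inf_le_left fun x hx => ?_
      obtain ⟨hx1, hx2⟩ := Subgroup.mem_inf.1 hx
      exact mem_cq.2 ⟨normalizer_le_o2 N (L.hN.pc.norm (L.HM (Block.o2_le _ hx2))), o2_sup_comm L.hN BM hx2⟩
  have hia : (cj y (jcl F N) ⊓ cq N).relIndex (cj y (jcl F N)) = 2 ^ a := by
    rw [hcq, inf_relIndex_left, e1]
  have hiW : (jcl F N ⊓ centralizer (cj y (jcl F N) : Set G)).relIndex (jcl F N) ≤ 2 ^ (a' + c) := by
    rw [inf_relIndex_left]; exact e6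
  refine ⟨cj y (jcl F N), a, a', c, h1, h2, h3, hAo.trans inf_le_left, fun t ht x hx =>
    (mem_centralizer_iff.1 (hAo ht).2 x hx).symm, h4, ?_, hAsq, card_cj y _, h5, h6, hsit, hcq, ?_, hia, e1, e2, e3, e4,
    e5, hiW, (relIndex_cw_le L.W_le_NY).trans hiW⟩
  · exact fun x hx z hz => comm_of_sq hAsq hx hz
  · intro hle
    rw [inf_eq_left.2 hle, relIndex_self] at hia
    have := Nat.one_lt_two_pow (n := a) (by omega)
    omega

end Ln

end Cfsg.Agent.OddCyclic.EmpG.Sec1
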