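import Cfsg.Agent.OddCyclic.EmpG.Sec1

/-!
# S0342 (Empty)(III), (1.3) from the weak form of (Empty), for `N/O₂(N)` not of type `L₃(2)`

* `of_bc`: if `N T`, `T ≤ N(N)` a 2-group, is of type `bc`, then `N/O₂(N)` is simple of order 168;
* `comm_zc_of_weak`: (1.3).
-/

set_option autoImplicit false
set_option linter.unusedSectionVars false

namespace Cfsg.Agent.OddCyclic.EmpG.SecOne3

open Subgroup Cfsg Cfsg.Agent.ZN Cfsg.Agent.ZN.ChoiceBase Cfsg.Agent.ZN.ChoiceSit
open Cfsg.Agent.MinSimple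
open Cfsg.Agent.MinSimple.EmptyTI Cfsg.Agent.MinSimple.EmptySix
open Cfsg.Agent.OddCyclic.UniStruct (Pc)
open Cfsg.Agent.OddCyclic.EmpFrame
open Cfsg.Agent.OddCyclic.EmpG.Pcs Cfsg.Agent.OddCyclic.EmpG.Sec1
open Cfsg.Agent.OddCyclic.EmpG.Line (conj_mem conj_mem')
open Cfsg.Agent.OddCyclic.T1Defs (OddCyc)
open Cfsg.Agent.OddCyclic.EmpTI (BcW EMPW)

universe u

variable {G : Type u} [Group G] [Finite G]

/-- powers of the elements of `N T` -/
theorem exists_pow_mem {N T : Subgroup G} (hT : IsPGroup 2 T) (hTN : T ≤ normalizer (N : Set G)) {x : G}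
    (hx : x ∈ N ⊔ T) : ∃ k : ℕ, x ^ 2 ^ k ∈ N := by
  rw [sup_comm, ← SetLike.mem_coe, Subgroup.coe_mul_of_left_le_normalizer_right _ _ hTN] at hx
  obtain ⟨t, ht, n, hn, rfl⟩ := hx
  obtain ⟨k, hk⟩ := hT ⟨t, ht⟩
  have hk' : t ^ 2 ^ k = 1 := congrArg Subtype.val hk
  have h1 := pow_mul_mem (hTN ht) hn (2 ^ k)
  rw [hk', inv_one, mul_one] at h1
  exact ⟨k, h1⟩

theorem not_two {Q : Type*} [Group Q] (h168 : Nat.card Q = 168) (h : IsPGroup 2 Q) : False := by
  have : Finite Q := Nat.finite_of_card_ne_zero (by rw [h168]; norm_num)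
  obtain ⟨n, hn⟩ := IsPGroup.iff_card.1 h
  rw [h168] at hn
  have h7 : Nat.Prime 7 := by norm_num
  have h1 : 7 ∣ 2 ^ n := hn ▸ (by norm_num : 7 ∣ 168)
  have h2 := (Nat.prime_dvd_prime_iff_eq h7 Nat.prime_two).1 (h7.dvd_of_dvd_pow h1)
  omega

/-- `N T` of type `bc` implies `N/O₂(N)` simple of order 168 -/
theorem of_bc (hG : OddCyc G) {M N T X Y L : Subgroup G} (hN : Pc M N) (hT : IsPGroup 2 T)
    (hTN : T ≤ normalizer (N : Set G)) (hX : X = N ⊔ T) (hL : BcW X T Y L) :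
    (o2 N).relIndex N = 168 ∧ IsSimpleGroup (N ⧸ pCore 2 N) := by
  obtain ⟨Q, iQ, π, hπ, hker, hQ, h168⟩ := hL.simple
  have hNX : N ≤ X := hX ▸ le_sup_left
  have hXN : X ≤ normalizer (N : Set G) := by rw [hX]; exact sup_le le_normalizer hTN
  have hpow : ∀ x ∈ X, ∃ k : ℕ, x ^ 2 ^ k ∈ N := fun x hx => exists_pow_mem hT hTN (hX ▸ hx)
  -- `N ≤ L`
  have hNL : N ≤ L := by
    have h1 : N ≤ normalizer ((N ⊓ L : Subgroup G) : Set G) :=
      (le_inf le_normalizer (hNX.trans hL.norm)).trans inf_normalizer_le_normalizer_inf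
    rcases pc_min hG hN inf_le_left h1 with h2 | h2
    · exfalso
      have h3 : IsPGroup 2 L := by
        rintro ⟨x, hx⟩
        obtain ⟨k, hk⟩ := hpow x (hL.le hx)
        obtain ⟨l, hl⟩ := h2 ⟨x ^ 2 ^ k, hk, pow_mem hx _⟩
        have hl' : (x ^ 2 ^ k) ^ 2 ^ l = 1 := congrArg Subtype.val hl
        refine ⟨k + l, Subtype.ext ?_⟩
        show x ^ 2 ^ (k + l) = 1
        rw [pow_add, pow_mul]; exact hl'
      exact not_two h168 (h3.of_surjective π hπ)
    · exact inf_eq_left.1 h2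
  let f : N →* Q := π.comp (Subgroup.inclusion hNL)
  -- images of normal subgroups of `N`
  have himg : (f.range).Normal := by
    refine ⟨?_⟩
    rintro _ ⟨n, rfl⟩ q
    obtain ⟨l, rfl⟩ := hπ q
    refine ⟨⟨l * n * (l : G)⁻¹, conj_mem (hXN (hL.le l.2)) n.2⟩, ?_⟩
    show π _ = π l * π _ * (π l)⁻¹
    rw [← map_inv, ← map_mul, ← map_mul]
    rfl
  have hf : Function.Surjective f := by
    rcases himg.eq_bot_or_eq_top with h1 | h1
    · exfalso
      refine not_two h168 ?_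
      intro q
      obtain ⟨l, rfl⟩ := hπ q
      obtain ⟨k, hk⟩ := hpow l (hL.le l.2)
      refine ⟨k, ?_⟩
      have h2 : f ⟨(l : G) ^ 2 ^ k, hk⟩ ∈ f.range := ⟨_, rfl⟩
      rw [h1, Subgroup.mem_bot] at h2
      have h3 : f ⟨(l : G) ^ 2 ^ k, hk⟩ = π (l ^ 2 ^ k) := rfl
      rw [h3, map_pow] at h2
      exact h2
    · exact MonoidHom.range_eq_top.1 h1
  have hkerf : ∀ n : N, f n = 1 ↔ (n : G) ∈ centralizer (Y : Set G) := by
    intro n
    have h1 : f n = 1 ↔ Subgroup.inclusion hNL n ∈ π.ker := Iff.rfl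
    rw [h1, hker, mem_subgroupOf]
    rfl
  have hcore : (pCore 2 N).Normal := Lib.Cores.pCore_normal 2
  have hkf : f.ker = pCore 2 N := by
    apply le_antisymm
    · have h1 : f.ker.map N.subtype ≤ o2 N := by
        have h2 : N ≤ normalizer ((f.ker.map N.subtype : Subgroup G) : Set G) := by
          refine Block.le_normalizer_of_forall ?_
          rintro n hn _ ⟨m, hm, rfl⟩
          exact ⟨⟨n, hn⟩ * m * ⟨n, hn⟩⁻¹, (inferInstance : f.ker.Normal).conj_mem m hm _, rfl⟩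
        refine Block.le_o2 ?_ (map_subtype_le _) h2
        rcases pc_min hG hN (map_subtype_le _) h2 with h3 | h3
        · exact h3
        · exfalso
          refine not_two h168 ?_
          intro q
          obtain ⟨n, rfl⟩ := hf q
          have h4 : (n : G) ∈ f.ker.map N.subtype := h3.ge n.2
          obtain ⟨m, hm, e⟩ := h4
          have h5 : m = n := Subtype.ext e
          subst h5
          exact ⟨0, by rw [MonoidHom.mem_ker.1 hm, one_pow]⟩
      intro n hn
      obtain ⟨m, hm, e⟩ := h1 (mem_map_of_mem _ hn)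
      rwa [← Subtype.ext (show (m : G) = n from e)]
    · have h1 : ((pCore 2 N).map f).Normal := hcore.map f hf
      rcases h1.eq_bot_or_eq_top with h2 | h2
      · intro n hn
        have h3 : f n ∈ (pCore 2 N).map f := mem_map_of_mem f hn
        rw [h2, Subgroup.mem_bot] at h3
        exact h3
      · exfalso
        refine not_two h168 ?_
        intro q
        have h3 : q ∈ (pCore 2 N).map f := h2 ▸ Subgroup.mem_top q
        obtain ⟨n, hn, rfl⟩ := h3
        obtain ⟨k, hk⟩ := Lib.Cores.pCore_isPGroup (G := N) 2 ⟨n, hn⟩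
        have hk' : n ^ 2 ^ k = 1 := congrArg Subtype.val hk
        exact ⟨k, by rw [← map_pow, hk', map_one]⟩
  let e : N ⧸ pCore 2 N ≃* Q :=
    (QuotientGroup.quotientMulEquivOfEq hkf.symm).trans (QuotientGroup.quotientKerEquivOfSurjective f hf)
  refine ⟨?_, e.isSimpleGroup⟩
  have h1 : (o2 N).subgroupOf N = pCore 2 N := by
    show ((pCore 2 N).map N.subtype).comap N.subtype = pCore 2 N
    exact Subgroup.comap_map_eq_self_of_injective N.subtype_injective _
  rw [Subgroup.relIndex, h1, Subgroup.index, Nat.card_congr e.toEquiv, h168]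

/-- **(1.3)** from the weak form of (Empty) -/
theorem comm_zc_of_weak {S : Sylow 2 G} {I N : Subgroup G} (h : ENS S) (hw : EMPW (S : Subgroup G))
    (hI : TIData (S : Subgroup G) I) (hN : JP (S : Subgroup G) I N)
    (h3 : ¬ ((o2 N).relIndex N = 168 ∧ IsSimpleGroup (N ⧸ pCore 2 N))) {B : Subgroup G}
    (hSB : (S : Subgroup G) ≤ B) (hBM : B ≤ normalizer (I : Set G)) :
    N ≤ centralizer (zc (o2 (N ⊔ B)) : Set G) :=
  comm_zc_of h hI hN hSB hBM fun Y hY hXY hD => by
    rcases hw (N ⊔ (S : Subgroup G)) S Y (o2H_ne_bot hI hN le_rfl hI.S_le) (char2_H h hI hN le_rfl hI.S_le)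
      le_sup_right S.isPGroup' (Basic.not_dvd_relIndex S le_sup_right) (ChoiceBase.bau_le _) hY hXY hD with h1 | ⟨L, h1⟩
    · exact h1
    · exact absurd (of_bc h.hyp.cyc hN.pc S.isPGroup' (hI.S_le.trans hN.pc.norm) rfl h1) h3

end Cfsg.Agent.OddCyclic.EmpG.SecOne3
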