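import Cfsg.Agent.MinSimple.CosetFam

/-!
# S0342 (Empty), part (III), section 2: the graph lemma (blueprints/S0342-Empty-III-helper6.md), graph level

`GF Γ F Q N Y T`: a rank two graph with lines (`typ = false`) and points (`typ = true`), `F l` (elementary abelian,
`⊥` at points), `Q v`, `N p`, `Y p` and the edge groups `T l p`.  `W p = ⟨F l : l ~ p⟩`.
`GF.main`: a pair of points `p, p'` with the inequalities of (2.5).
-/

set_option autoImplicit false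
set_option linter.unusedSectionVars false

namespace Cfsg.Agent.OddCyclic.EmpG.Graph

open Subgroup MulAction Pointwise
open Cfsg.Agent.MinSimple.CosetGraph Cfsg.Agent.MinSimple.CosetFam Cfsg.Agent.ZN
open scoped commutatorElement

universe u v

/-! ### Indices of centralisers -/

section Index

variable {G : Type u} [Group G] [Finite G]

/-- `|E : C_E(W)|` -/
noncomputable abbrev ci (W E : Subgroup G) : ℕ := (centralizer (W : Set G)).relIndex E

theorem ci_pos (W E : Subgroup G) : 0 < ci W E :=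
  Nat.pos_of_ne_zero (Subgroup.index_ne_zero_of_finite (H := (centralizer (W : Set G)).subgroupOf E))

theorem relIndex_pos (K E : Subgroup G) : 0 < K.relIndex E :=
  Nat.pos_of_ne_zero (Subgroup.index_ne_zero_of_finite (H := K.subgroupOf E))

/-- the chain argument of (2.5) -/
theorem chain {ι : Type*} (F : ι → Subgroup G) (W : Subgroup G) (hW : W = ⨆ i, F i) (k : ℕ) (A : Subgroup G)
    (hk : ∀ (i : ι) (E : Subgroup G), E ≤ A → ci (F i) E ^ k ≤ ci E (F i)) :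
    ∀ n : ℕ, ∀ B : Subgroup G, B ≤ A → Nat.card B ≤ n → ci W B ^ k ≤ ci B W := by
  intro n
  induction n with
  | zero => intro B _ hB; exact absurd (Nat.card_pos (α := B)) (by omega)
  | succ n ih =>
    intro B hBA hB
    by_cases hc : B ≤ centralizer (W : Set G)
    · have h1 : ci W B = 1 := relIndex_eq_one.2 hc
      rw [h1, one_pow]
      exact ci_pos _ _
    · have h1 : ∃ i, ¬ B ≤ centralizer (F i : Set G) := by
        by_contra hcon
        push Not at hcon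
        apply hc
        rw [le_centralizer_iff, hW]
        exact iSup_le fun i => (le_centralizer_iff.1 (hcon i))
      obtain ⟨i, hi⟩ := h1
      have hFW : F i ≤ W := by rw [hW]; exact le_iSup F i
      set B' := B ⊓ centralizer (F i : Set G) with hB'
      have hlt : B' < B := lt_of_le_of_ne inf_le_left fun h => hi (by rw [← h]; exact inf_le_right)
      have h2 : Nat.card B' < Nat.card B := by
        have : (B' : Set G).ncard < (B : Set G).ncard := Set.ncard_lt_ncard (SetLike.coe_ssubset_coe.2 hlt) (Set.toFinite _)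
        exact this
      have h3 := ih B' (inf_le_left.trans hBA) (by omega)
      -- `ci W B = ci W B' * |B : B'|`
      have h4 : ci W B = ci W B' * ci (F i) B := by
        have e1 : ci W B' = (B' ⊓ centralizer (W : Set G)).relIndex B' := by rw [inf_comm, inf_relIndex_right]
        have e2 : ci (F i) B = B'.relIndex B := by rw [hB', inf_comm, inf_relIndex_right]
        have e3 : B' ⊓ centralizer (W : Set G) = B ⊓ centralizer (W : Set G) := by
          apply le_antisymm (inf_le_inf_right _ inf_le_left)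
          refine le_inf (le_inf inf_le_left (inf_le_right.trans (centralizer_le hFW))) inf_le_right
        have e4 : ci W B = (B ⊓ centralizer (W : Set G)).relIndex B := by rw [inf_comm, inf_relIndex_right]
        rw [e1, e2, e3, e4, relIndex_mul_relIndex _ _ _ (e3 ▸ inf_le_left) inf_le_left]
      -- `ci B W = |C_W(B') : C_W(B)| * ci B' W`
      have h5 : ci (B) (F i) * ci B' W ≤ ci B W := by
        have e1 : ci B' W = (W ⊓ centralizer (B' : Set G)).relIndex W := by rw [inf_comm, inf_relIndex_right]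
        have e2 : ci B W = (W ⊓ centralizer (B : Set G)).relIndex W := by rw [inf_comm, inf_relIndex_right]
        have e3 : W ⊓ centralizer (B : Set G) ≤ W ⊓ centralizer (B' : Set G) :=
          inf_le_inf_left _ (centralizer_le inf_le_left)
        rw [e2, ← relIndex_mul_relIndex _ _ _ e3 inf_le_left, ← e1]
        refine Nat.mul_le_mul_right _ ?_
        have e4 : F i ≤ W ⊓ centralizer (B' : Set G) := by
          refine le_inf hFW ?_
          rw [le_centralizer_iff]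
          exact inf_le_right
        have e5 : ci B (F i) = (W ⊓ centralizer (B : Set G)).relIndex (F i) := by
          have : (W ⊓ centralizer (B : Set G)) ⊓ F i = centralizer (B : Set G) ⊓ F i := by
            apply le_antisymm
            · exact inf_le_inf_right _ inf_le_right
            · exact le_inf (le_inf (inf_le_right.trans hFW) inf_le_left) inf_le_right
          rw [← inf_relIndex_right (W ⊓ centralizer (B : Set G)), this, inf_relIndex_right]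
        rw [e5]
        exact relIndex_le_of_le_right e4 (relIndex_pos _ _).ne'
      calc ci W B ^ k = ci W B' ^ k * ci (F i) B ^ k := by rw [h4, mul_pow]
        _ ≤ ci B' W * ci B (F i) := Nat.mul_le_mul h3 (hk i B hBA)
        _ = ci B (F i) * ci B' W := mul_comm _ _
        _ ≤ ci B W := h5

end Index


/-! ### The graph -/

variable {G : Type u} {V : Type v} [Group G] [MulAction G V]

/-- the local facts; `typ = false`: lines, `typ = true`: points; `k`, `h` as in (k), (h) -/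
structure GF (Γ : RGraph G V) (F Q N Y : V → Subgroup G) (T : V → V → Subgroup G) (k h : ℕ) : Prop where
  faith : Γ.Faithful
  Fe : Eqv F
  Qe : Eqv Q
  Fpt : ∀ {p}, Γ.typ p = true → F p = ⊥
  Fsq : ∀ l, ∀ x ∈ F l, x * x = 1
  FQ : ∀ v, F v ≤ Q v
  Qst : ∀ v, Q v ≤ stabilizer G v
  adj : ∀ {v w}, Γ.A v w → F v ≤ Q w
  Tst : ∀ {l p}, Γ.A l p → Γ.typ l = false → T l p ≤ stabilizer G p
  QT : ∀ {l p}, Γ.A l p → Γ.typ l = false → Q l ≤ T l p
  QT' : ∀ {l p}, Γ.A l p → Γ.typ l = false → Q p ≤ T l p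
  lp3 : ∀ {l p}, Γ.A l p → Γ.typ l = false → ∀ x ∈ F l, ∀ t ∈ T l p, t * x * t⁻¹ * x⁻¹ ∈ Y p
  QF : ∀ v, ∀ t ∈ Q v, ∀ x ∈ F v, t * x = x * t
  cT : ∀ {l p}, Γ.A l p → Γ.typ l = false → ∀ t ∈ T l p, (∀ x ∈ F l, t * x = x * t) → t ∈ Q l
  QN : ∀ {p}, Γ.typ p = true → ∀ t ∈ Q p, ∀ n ∈ N p, t * n * t⁻¹ * n⁻¹ ∈ o2 (N p)
  cN : ∀ {l p}, Γ.A l p → Γ.typ l = false → ∀ t ∈ T l p, (∀ n ∈ N p, t * n * t⁻¹ * n⁻¹ ∈ o2 (N p)) → t ∈ Q p
  UN : ∀ {p p'}, Γ.typ p = true → Γ.typ p' = true → N p ≠ N p' → ∀ x ∈ Y p, x ∈ Y p' → x = 1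
  kk : ∀ {l p}, Γ.A l p → Γ.typ l = false → ∀ E : Subgroup G, E ≤ T l p → (∀ x ∈ E, x * x = 1) →
    ci (F l) E ^ k ≤ ci E (F l)
  hh : ∀ {l p}, Γ.A l p → Γ.typ l = false → ∀ w ∈ T l p, (∃ x ∈ F l, w * x ≠ x * w) →
    2 ^ h ≤ (centralizer {w}).relIndex (F l)
  EV : ∀ {l p l' p'}, Γ.A l p → Γ.A l' p' → Γ.typ l = false → Γ.typ l' = false → F l ≤ T l' p' → F l' ≤ T l p →
    (∀ x ∈ F l, ∀ y ∈ F l', x * y * x⁻¹ * y⁻¹ ∈ Y p ∧ x * y * x⁻¹ * y⁻¹ ∈ Y p') → ∀ x ∈ F l, ∀ y ∈ F l', x * y = y * x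

/-- `W p = ⟨F l : l ~ p⟩` -/
def Ws (Γ : RGraph G V) (F : V → Subgroup G) (p : V) : Subgroup G := ⨆ l : {l : V // Γ.A p l}, F l

theorem Ws_eqv {Γ : RGraph G V} {F : V → Subgroup G} (hF : Eqv F) : Eqv (Ws Γ F) := Eqv.iSup_rel hF Γ.smul

theorem le_Ws {Γ : RGraph G V} {F : V → Subgroup G} {p l : V} (h : Γ.A p l) : F l ≤ Ws Γ F p :=
  le_iSup (fun l : {l : V // Γ.A p l} => F (l : V)) ⟨l, h⟩

theorem Ws_le {Γ : RGraph G V} {F : V → Subgroup G} {p : V} {K : Subgroup G} (h : ∀ l, Γ.A p l → F l ≤ K) :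
    Ws Γ F p ≤ K := iSup_le fun l => h l l.2

theorem inv_of_sq {x : G} (h : x * x = 1) : x⁻¹ = x := inv_eq_of_mul_eq_one_left h

/-- a subgroup generated by commuting elementary abelian subgroups is elementary abelian -/
theorem elem_iSup {ι : Type*} (F : ι → Subgroup G) (h1 : ∀ i, ∀ x ∈ F i, x * x = 1)
    (h2 : ∀ i j, ∀ x ∈ F i, ∀ y ∈ F j, x * y = y * x) :
    (∀ x ∈ (⨆ i, F i : Subgroup G), ∀ y ∈ (⨆ i, F i : Subgroup G), x * y = y * x) ∧
      ∀ x ∈ (⨆ i, F i : Subgroup G), x * x = 1 := by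
  have hc : (⨆ i, F i : Subgroup G) ≤ centralizer ((⨆ i, F i : Subgroup G) : Set G) := by
    refine iSup_le fun i => ?_
    rw [le_centralizer_iff]
    refine iSup_le fun j => ?_
    intro y hy
    rw [mem_centralizer_iff]
    intro x hx
    exact h2 i j x hx y hy
  have hcomm : ∀ x ∈ (⨆ i, F i : Subgroup G), ∀ y ∈ (⨆ i, F i : Subgroup G), x * y = y * x := fun x hx y hy =>
    (mem_centralizer_iff.1 (hc hx) y hy).symm
  refine ⟨hcomm, fun x hx => ?_⟩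
  induction hx using Subgroup.iSup_induction' with
  | hp i x hx => exact h1 i x hx
  | h1 => rw [one_mul]
  | hmul x y hx hy ihx ihy =>
    calc x * y * (x * y) = x * (y * x) * y := by group
      _ = (x * x) * (y * y) := by rw [hcomm y hy x hx]; group
      _ = 1 := by rw [ihx, ihy, one_mul]

namespace GF

variable {Γ : RGraph G V} {F Q N Y : V → Subgroup G} {T : V → V → Subgroup G} {k h : ℕ}
variable (g : GF Γ F Q N Y T k h)

include g

theorem typ_of {v w : V} (hvw : Γ.A v w) (hw : Γ.typ w = true) : Γ.typ v = false := by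
  have := Γ.typ_adj hvw
  rw [hw] at this
  cases h1 : Γ.typ v
  · rfl
  · rw [h1] at this; exact absurd this (by decide)

theorem typ_of' {v w : V} (hvw : Γ.A v w) (hw : Γ.typ w = false) : Γ.typ v = true := by
  have := Γ.typ_adj hvw
  rw [hw] at this
  cases h1 : Γ.typ v
  · rw [h1] at this; exact absurd this (by decide)
  · rfl

theorem QF_le {v w : V} (hle : F v ≤ Q w) : ∀ x ∈ F v, ∀ y ∈ F w, x * y = y * x :=
  fun x hx y hy => g.QF w x (hle hx) y hy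

/-- `W p ≤ Q p` -/
theorem Ws_le_Q {p : V} : Ws Γ F p ≤ Q p := Ws_le fun _ hl => g.adj (Γ.symm hl)

/-- `W p` is elementary abelian if lines at distance 2 commute -/
theorem Ws_elem (h2 : ∀ v w, Γ.W 2 v w → F v ≤ Q w) (p : V) :
    (∀ x ∈ Ws Γ F p, ∀ y ∈ Ws Γ F p, x * y = y * x) ∧ ∀ x ∈ Ws Γ F p, x * x = 1 := by
  refine elem_iSup (fun l : {l : V // Γ.A p l} => F l) (fun i => g.Fsq _) fun i j => ?_
  exact g.QF_le (h2 _ _ (Wlk.cons (Γ.symm i.2) (Wlk.one j.2)))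

/-- the commutators `[W p', a]`, `a ∈ Q p'`, are in `Y p'` -/
theorem comm_Y {p : V} (hp : Γ.typ p = true)
    (hW : (∀ x ∈ Ws Γ F p, ∀ y ∈ Ws Γ F p, x * y = y * x) ∧ ∀ x ∈ Ws Γ F p, x * x = 1) :
    ∀ a ∈ Q p, ∀ x ∈ Ws Γ F p, a * x * a⁻¹ * x⁻¹ ∈ Y p := by
  intro a ha x hx
  have hn : ∀ x ∈ Ws Γ F p, a * x * a⁻¹ ∈ Ws Γ F p := by
    intro x hx
    exact (mem_normalizer_iff.1 ((Ws_eqv (Γ := Γ) g.Fe).stab_le_normalizer p (g.Qst p ha)) x).1 hx
  unfold Ws at hx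
  induction hx using Subgroup.iSup_induction' with
  | hp i x hx => exact g.lp3 (Γ.symm i.2) (g.typ_of (Γ.symm i.2) hp) x hx a (g.QT' (Γ.symm i.2) (g.typ_of (Γ.symm i.2) hp) ha)
  | h1 =>
    have e : a * 1 * a⁻¹ * (1 : G)⁻¹ = 1 := by group
    rw [e]; exact one_mem _
  | hmul x y hx hy ihx ihy =>
    have e : a * (x * y) * a⁻¹ * (x * y)⁻¹ = (a * x * a⁻¹ * x⁻¹) * (a * y * a⁻¹ * y⁻¹) := by
      have h1 : a * y * a⁻¹ * y⁻¹ ∈ Ws Γ F p := mul_mem (hn y hy) (inv_mem hy)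
      have h2 := hW.1 _ h1 x⁻¹ (inv_mem hx)
      calc a * (x * y) * a⁻¹ * (x * y)⁻¹ = a * x * a⁻¹ * ((a * y * a⁻¹ * y⁻¹) * x⁻¹) := by group
        _ = a * x * a⁻¹ * (x⁻¹ * (a * y * a⁻¹ * y⁻¹)) := by rw [h2]
        _ = _ := by group
    rw [e]
    exact mul_mem ihx ihy


/-- (2.3): the length `b` is odd -/
theorem not_even {b : ℕ} (hmin : ∀ m < b + 2, ∀ v w, Γ.W m v w → F v ≤ Q w) {v p q w : V} (hv : Γ.typ v = false)
    (hw : Γ.typ w = false) (hvp : Γ.A v p) (hpq : Γ.W b p q) (hqw : Γ.A q w) : F v ≤ Q w := by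
  have h1 : F v ≤ T w q := (hmin (b + 1) (by omega) v q (Wlk.cons hvp hpq)).trans (g.QT' (Γ.symm hqw) hw)
  have h2 : F w ≤ T v p :=
    (hmin (b + 1) (by omega) w p (Wlk.cons (Γ.symm hqw) (RGraph.W.symm hpq))).trans (g.QT' hvp hv)
  have h3 := g.EV hvp (Γ.symm hqw) hv hw h1 h2 (fun x hx y hy => by
    refine ⟨?_, g.lp3 (Γ.symm hqw) hw y hy x (h1 hx)⟩
    have h4 := inv_mem (g.lp3 hvp hv x hx y (h2 hy))
    have e : (y * x * y⁻¹ * x⁻¹)⁻¹ = x * y * x⁻¹ * y⁻¹ := by group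
    rwa [e] at h4)
  intro x hx
  exact g.cT (Γ.symm hqw) hw x (h1 hx) (fun y hy => h3 x hx y hy)

/-- a pair of points as in (2.4) -/
structure _root_.Cfsg.Agent.OddCyclic.EmpG.Graph.Pr (Γ : RGraph G V) (F Q N : V → Subgroup G) (p p' l l' : V) :
    Prop where
  lp : Γ.A l p
  lp' : Γ.A l' p'
  tp : Γ.typ p = true
  tp' : Γ.typ p' = true
  WQ : Ws Γ F p ≤ Q l'
  WQ' : Ws Γ F p' ≤ Q l
  ne : N p ≠ N p'

omit g in
theorem _root_.Cfsg.Agent.OddCyclic.EmpG.Graph.Pr.symm {p p' l l' : V} (P : Pr Γ F Q N p p' l l') :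
    Pr Γ F Q N p' p l' l := ⟨P.lp', P.lp, P.tp', P.tp, P.WQ', P.WQ, P.ne.symm⟩

section pair

variable (h2 : ∀ v w, Γ.W 2 v w → F v ≤ Q w) {p p' l l' : V} (P : Pr Γ F Q N p p' l l')

include h2 P

/-- `[A₀, A₀'] = 1` -/
theorem comm0 : ∀ x ∈ Ws Γ F p ⊓ Q p', ∀ y ∈ Ws Γ F p' ⊓ Q p, x * y = y * x := by
  rintro x ⟨hx, hxQ⟩ y ⟨hy, hyQ⟩
  have e1 := g.comm_Y P.tp' (g.Ws_elem h2 p') x hxQ y hy
  have e2 := inv_mem (g.comm_Y P.tp (g.Ws_elem h2 p) y hyQ x hx)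
  have e : (y * x * y⁻¹ * x⁻¹)⁻¹ = x * y * x⁻¹ * y⁻¹ := by group
  rw [e] at e2
  have h3 := g.UN P.tp P.tp' P.ne _ e2 e1
  rw [mul_inv_eq_one, mul_inv_eq_iff_eq_mul] at h3
  exact h3

theorem normalizes : Ws Γ F p ≤ normalizer (Ws Γ F p' : Set G) :=
  P.WQ.trans ((g.QT P.lp' (g.typ_of P.lp' P.tp')).trans
    ((g.Tst P.lp' (g.typ_of P.lp' P.tp')).trans ((Ws_eqv (Γ := Γ) g.Fe).stab_le_normalizer p')))

theorem ineq1 [Finite G] : ci (Ws Γ F p') (Ws Γ F p ⊓ Q p') ^ k ≤ (Ws Γ F p' ⊓ Q p).relIndex (Ws Γ F p') := by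
  have hel := g.Ws_elem h2 p
  have h3 : ci (Ws Γ F p') (Ws Γ F p ⊓ Q p') ^ k ≤ ci (Ws Γ F p ⊓ Q p') (Ws Γ F p') := by
    refine chain (fun l : {l : V // Γ.A p' l} => F l) (Ws Γ F p') rfl k (Ws Γ F p ⊓ Q p') ?_ _ _ le_rfl le_rfl
    intro i E hE
    have hi := g.typ_of (Γ.symm i.2) P.tp'
    exact g.kk (Γ.symm i.2) hi E (hE.trans (inf_le_right.trans (g.QT' (Γ.symm i.2) hi)))
      (fun x hx => hel.2 x (hE hx).1)
  refine h3.trans (Nat.le_of_dvd (relIndex_pos _ _) (relIndex_dvd_of_le_left _ ?_))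
  intro y hy
  rw [mem_centralizer_iff]
  intro x hx
  exact g.comm0 h2 P x hx y hy

omit h2 P g in
theorem ineq3 [Finite G] : ci (Ws Γ F p) (Ws Γ F p') ≤
    (Ws Γ F p' ⊓ Q p).relIndex (Ws Γ F p') * ci (Ws Γ F p) (Ws Γ F p' ⊓ Q p) := by
  set D := (Ws Γ F p' ⊓ Q p) ⊓ centralizer (Ws Γ F p : Set G) with hD
  have h1 : ci (Ws Γ F p) (Ws Γ F p' ⊓ Q p) = D.relIndex (Ws Γ F p' ⊓ Q p) := by
    rw [hD, inf_comm (Ws Γ F p' ⊓ Q p), inf_relIndex_right]
  rw [h1, mul_comm, relIndex_mul_relIndex _ _ _ inf_le_left inf_le_left]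
  exact Nat.le_of_dvd (relIndex_pos _ _) (relIndex_dvd_of_le_left _ inf_le_right)

omit P in
theorem ineq4 [Finite G] (htp : Γ.typ p = true) (hcomm : ∀ x ∈ Ws Γ F p ⊓ Q p', ∀ y ∈ Ws Γ F p' ⊓ Q p, x * y = y * x)
    (hne : ci (Ws Γ F p) (Ws Γ F p' ⊓ Q p) ≠ 1) : 2 ^ h ≤ (Q p').relIndex (Ws Γ F p) := by
  have h3 : ¬ Ws Γ F p' ⊓ Q p ≤ centralizer (Ws Γ F p : Set G) := fun hcon => hne (relIndex_eq_one.2 hcon)
  obtain ⟨w, hw, hwn⟩ := SetLike.not_le_iff_exists.1 h3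
  have h4 : ∃ m, Γ.A p m ∧ ∃ x ∈ F m, w * x ≠ x * w := by
    by_contra hcon
    push Not at hcon
    apply hwn
    have h5 : Ws Γ F p ≤ centralizer ({w} : Set G) := by
      refine Ws_le fun m hm x hx => ?_
      rw [mem_centralizer_singleton_iff]
      exact (hcon m hm x hx).symm
    rw [mem_centralizer_iff]
    intro x hx
    exact mem_centralizer_singleton_iff.1 (h5 hx)
  obtain ⟨m, hm, hx⟩ := h4
  have htm := g.typ_of (Γ.symm hm) htp
  refine (g.hh (Γ.symm hm) htm w (g.QT' (Γ.symm hm) htm hw.2) hx).trans ?_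
  have h6 : (centralizer {w}).relIndex (F m) ≤ (Q p').relIndex (F m) := by
    have h7 : Q p' ⊓ F m ≤ centralizer {w} := by
      rintro x ⟨hx1, hx2⟩
      rw [mem_centralizer_singleton_iff]
      exact hcomm x ⟨le_Ws hm hx2, hx1⟩ w hw
    rw [← inf_relIndex_right (Q p')]
    exact Nat.le_of_dvd (relIndex_pos _ _) (relIndex_dvd_of_le_left _ h7)
  exact h6.trans (relIndex_le_of_le_right (le_Ws hm) (relIndex_pos _ _).ne')

/-- (2.5) -/
theorem out [Finite G] : ∃ a a' c : ℕ, (Q p').relIndex (Ws Γ F p) = 2 ^ a ∧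
    (Q p).relIndex (Ws Γ F p') = 2 ^ a' ∧ k * c ≤ a ∧ (c ≠ 0 → h ≤ a) ∧
      ci (Ws Γ F p) (Ws Γ F p') ≤ 2 ^ (a' + c) := by
  have hf : Fact (Nat.Prime 2) := ⟨Nat.prime_two⟩
  have pw : ∀ (X K : Subgroup G), (∀ x ∈ X, x * x = 1) → ∃ n, K.relIndex X = 2 ^ n := by
    intro X K hX
    have h1 : IsPGroup 2 X := fun x => ⟨1, Subtype.ext (by
      show (x : G) ^ 2 ^ 1 = 1
      rw [pow_one, pow_two]; exact hX x x.2)⟩
    obtain ⟨n, hn⟩ := IsPGroup.iff_card.1 h1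
    have h2 : K.relIndex X ∣ 2 ^ n := by
      rw [← hn]
      exact (K.subgroupOf X).index_dvd_card
    obtain ⟨m, -, hm⟩ := (Nat.dvd_prime_pow Nat.prime_two).1 h2
    exact ⟨m, hm⟩
  have he := g.Ws_elem h2 p
  have he' := g.Ws_elem h2 p'
  obtain ⟨a, ha⟩ := pw (Ws Γ F p) (Q p') he.2
  obtain ⟨a', ha'⟩ := pw (Ws Γ F p') (Q p) he'.2
  obtain ⟨c, hc⟩ := pw (Ws Γ F p' ⊓ Q p) (centralizer (Ws Γ F p : Set G)) (fun x hx => he'.2 x hx.1)
  have e1 : (Ws Γ F p' ⊓ Q p).relIndex (Ws Γ F p') = 2 ^ a' := by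
    rw [inf_comm, inf_relIndex_right]; exact ha'
  have e2 : (Ws Γ F p ⊓ Q p').relIndex (Ws Γ F p) = 2 ^ a := by
    rw [inf_comm, inf_relIndex_right]; exact ha
  refine ⟨a, a', c, ha, ha', ?_, ?_, ?_⟩
  · have h3 := g.ineq1 h2 P.symm
    change ci (Ws Γ F p) (Ws Γ F p' ⊓ Q p) ^ k ≤ _ at h3
    rw [e2] at h3
    change ((centralizer (Ws Γ F p : Set G)).relIndex (Ws Γ F p' ⊓ Q p)) ^ k ≤ _ at h3
    rw [hc, ← pow_mul, mul_comm] at h3
    exact (Nat.pow_le_pow_iff_right (by norm_num)).1 h3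
  · intro hc0
    have h3 := g.ineq4 h2 P.tp (g.comm0 h2 P) (by
      show (centralizer (Ws Γ F p : Set G)).relIndex (Ws Γ F p' ⊓ Q p) ≠ 1
      rw [hc]
      intro h4
      rcases Nat.pow_eq_one.1 h4 with h5 | h5
      · omega
      · exact hc0 h5)
    rw [ha] at h3
    exact (Nat.pow_le_pow_iff_right (by norm_num)).1 h3
  · have h3 := ineq3 (Γ := Γ) (F := F) (Q := Q) (p := p) (p' := p')
    rw [e1] at h3
    change _ ≤ 2 ^ a' * (centralizer (Ws Γ F p : Set G)).relIndex (Ws Γ F p' ⊓ Q p) at h3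
    rw [hc, ← pow_add] at h3
    exact h3

end pair

/-- **(2.4), (2.5)** -/
theorem main [Finite G] {v₀ w₀ : V} (hvw : Γ.A v₀ w₀) (hne : F v₀ ≠ ⊥) :
    (∀ v w, Γ.W 2 v w → F v ≤ Q w) ∧ ∃ p p' l', Γ.A l' p' ∧ Γ.typ p = true ∧ Γ.typ p' = true ∧ Ws Γ F p ≤ Q l' ∧
      Ws Γ F p ≤ normalizer (Ws Γ F p' : Set G) ∧ Ws Γ F p' ≤ normalizer (Ws Γ F p : Set G) ∧
      ∃ a a' c : ℕ, (Q p').relIndex (Ws Γ F p) = 2 ^ a ∧ 1 ≤ a ∧ a' ≤ a ∧ k * c ≤ a ∧ (c ≠ 0 → h ≤ a) ∧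
        ci (Ws Γ F p) (Ws Γ F p') ≤ 2 ^ (a' + c) := by
  obtain ⟨b, hb⟩ := Γ.exists_crit g.faith g.Fe g.Qe g.Qst hvw hne
  have hb2 : 2 ≤ b := hb.two_le g.FQ (fun v w hvw => g.adj hvw)
  obtain ⟨b, rfl⟩ : ∃ b', b = b' + 2 := ⟨b - 2, by omega⟩
  have hmin := hb.min
  obtain ⟨v, w, hw, hn⟩ := hb.ex
  obtain ⟨p, hvp, hpw⟩ := Wlk.succ_iff.mp hw
  obtain ⟨q, hpq, hqw⟩ := Wlk.succ_iff'.mp hpw
  have hv : Γ.typ v = false := by
    cases h1 : Γ.typ v
    · rfl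
    · exfalso; apply hn; rw [g.Fpt h1]; exact bot_le
  have htw : Γ.typ w = true := by
    cases h1 : Γ.typ w
    · exact absurd (g.not_even hmin hv h1 hvp hpq hqw) hn
    · rfl
  have htp : Γ.typ p = true := g.typ_of' (Γ.symm hvp) hv
  have htq : Γ.typ q = false := g.typ_of hqw htw
  have hb1 : b ≠ 0 := by
    rintro rfl
    rw [Wlk.zero_iff.1 hpq, htq] at htp
    exact absurd htp (by decide)
  obtain ⟨b, rfl⟩ : ∃ b', b = b' + 1 := ⟨b - 1, by omega⟩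
  obtain ⟨l₁, hpl, hlq⟩ := Wlk.succ_iff.mp hpq
  have h2 : ∀ v w, Γ.W 2 v w → F v ≤ Q w := hmin 2 (by omega)
  refine ⟨h2, ?_⟩
  have h3 : Ws Γ F p ≤ Q q := Ws_le fun m hm => hmin (b + 1 + 1) (by omega) m q (Wlk.cons (Γ.symm hm) hpq)
  have h4 : Ws Γ F w ≤ Q l₁ := Ws_le fun m hm => hmin (b + 1 + 1) (by omega) m l₁
    (Wlk.cons (Γ.symm hm) (Wlk.cons (Γ.symm hqw) (RGraph.W.symm hlq)))
  have hnw : ¬ Ws Γ F p ≤ Q w := fun hcon => hn ((le_Ws (Γ.symm hvp)).trans hcon)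
  have hN : N p ≠ N w := by
    intro hcon
    apply hnw
    intro x hx
    refine g.cN hqw htq x (g.QT hqw htq (h3 hx)) (fun n hn' => ?_)
    rw [← hcon] at hn' ⊢
    exact g.QN htp x (g.Ws_le_Q hx) n hn'
  have P : Pr Γ F Q N p w l₁ q := ⟨Γ.symm hpl, hqw, htp, htw, h3, h4, hN⟩
  obtain ⟨a, a', c, e1, e2, e3, e4, e5⟩ := g.out h2 P
  by_cases haa : a' ≤ a
  · refine ⟨p, w, q, hqw, htp, htw, h3, g.normalizes h2 P, g.normalizes h2 P.symm, a, a', c, e1, ?_, haa, e3, e4, e5⟩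
    by_contra hcon
    have ha0 : a = 0 := by omega
    rw [ha0, pow_zero, relIndex_eq_one] at e1
    exact hnw e1
  · obtain ⟨b₁, b₁', c', f1, f2, f3, f4, f5⟩ := g.out h2 P.symm
    have g1 : b₁ = a' := Nat.pow_right_injective (le_refl 2) (f1.symm.trans e2)
    have g2 : b₁' = a := Nat.pow_right_injective (le_refl 2) (f2.symm.trans e1)
    subst g1 g2
    exact ⟨w, p, l₁, Γ.symm hpl, htw, htp, h4, g.normalizes h2 P.symm, g.normalizes h2 P, b₁, b₁', c', f1, by omega,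
      by omega, f3, f4, f5⟩

end GF

end Cfsg.Agent.OddCyclic.EmpG.Graph
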