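import Cfsg.Agent.OddCyclic.EmpPiece
import Cfsg.Agent.OddCyclic.EmpNSBase
import Cfsg.Agent.OddCyclic.EmpG.Line

/-!
# S0342 (Empty), part (III): facts on the piece `N` used in sections 0 and 1

* `pc_min`: a subgroup of the piece `N` normalised by `N` is a 2-group or `N`;
* `pc_gen`, `pc_comm_of_odd`: `N` is generated by its elements of odd order;
* `pc_of_mem`: case `r`: `x ∈ N` of order `r`, `x ∈ K`, `O₂(M) ≤ K` gives `N ≤ K`;
* (C1) `mem_of_order`, (C2) `mem_of_pPower`, (C3) `not_dvd_LL`.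
-/

set_option autoImplicit false
set_option linter.unusedSectionVars false

namespace Cfsg.Agent.OddCyclic.EmpG.Pcs

open Subgroup Cfsg Cfsg.Agent.ZN Cfsg.Agent.ZN.ChoiceBase Cfsg.Agent.ZN.ChoiceSit
open Cfsg.Agent.MinSimple Cfsg.Agent.MinSimple.EmptyTI Cfsg.Agent.MinSimple.EmptySix
open Cfsg.Agent.MinSimple.EmptyE.Closed (LL)
open Cfsg.Agent.OddCyclic.UniStruct (Pc Moves NP RM Cp mem_NP self_mem_NP NP_le NP_normal)
open Cfsg.Agent.OddCyclic.T1Defs (OddCyc)
open Cfsg.Agent.OddCyclic.EmpFrame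
open Cfsg.Agent.OddCyclic.EmpG.Line (isPGroup_of_odd eq_one_of_two_odd comm_of_odd conj_mem conj_mem')
open scoped commutatorElement

universe u

variable {G : Type u} [Group G]

theorem pow_mul_mem {K : Subgroup G} {a q : G} (ha : a ∈ normalizer (K : Set G)) (hq : q ∈ K) :
    ∀ k : ℕ, (a * q) ^ k * (a ^ k)⁻¹ ∈ K := by
  intro k
  induction k with
  | zero => simp
  | succ k ih =>
    have e : (a * q) ^ (k + 1) * (a ^ (k + 1))⁻¹ =
        (a * q) ^ k * (a ^ k)⁻¹ * (a ^ (k + 1) * q * (a ^ (k + 1))⁻¹) := by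
      rw [pow_succ, pow_succ]; group
    rw [e]
    exact mul_mem ih (conj_mem (pow_mem ha _) hq)

variable [Finite G] {M N : Subgroup G}

/-- elements of `zpowers x ⊔ O₂(M)` -/
theorem mem_sup_iff {x : G} (hx : x ∈ M) {y : G} (hy : y ∈ zpowers x ⊔ o2 M) :
    ∃ i : ℤ, ∃ q ∈ o2 M, y = x ^ i * q := by
  rw [← SetLike.mem_coe, Subgroup.coe_mul_of_left_le_normalizer_right _ _
    (zpowers_le.2 (Block.le_normalizer_o2 M hx))] at hy
  obtain ⟨_, ⟨i, rfl⟩, q, hq, rfl⟩ := hy
  exact ⟨i, q, hq, rfl⟩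

theorem rm_pow_mem {r : ℕ} {x : G} (h : RM M r x) {y : G} (hy : y ∈ zpowers x ⊔ o2 M) : y ^ r ∈ o2 M := by
  obtain ⟨i, q, hq, rfl⟩ := mem_sup_iff h.mem hy
  have h1 := pow_mul_mem (Block.le_normalizer_o2 M (zpow_mem h.mem i)) hq r
  have h2 : (x ^ i) ^ r = 1 := by
    rw [← zpow_natCast, ← zpow_mul, mul_comm, zpow_mul, zpow_natCast, ← h.ord, pow_orderOf_eq_one, one_zpow]
  rwa [h2, inv_one, mul_one] at h1

/-- elements of odd order of `⟨x⟩O₂(M)` have order `r` -/
theorem rm_order {r : ℕ} {x : G} (h : RM M r x) {y : G} (hy : y ∈ zpowers x ⊔ o2 M) (hy1 : y ≠ 1)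
    (ho : Odd (orderOf y)) : orderOf y = r := by
  have hr : Fact r.Prime := ⟨h.prime⟩
  refine orderOf_eq_prime ?_ hy1
  have h1 := rm_pow_mem h hy
  refine eq_one_of_two_odd (Block.o2_isPGroup M) h1 ?_
  exact Odd.of_dvd_nat ho (orderOf_pow_dvd r)

/-- **minimality of pieces** -/
theorem pc_min (hG : OddCyc G) (hN : Pc M N) {D : Subgroup G} (hD : D ≤ N) (hn : N ≤ normalizer (D : Set G)) :
    IsPGroup 2 D ∨ D = N := by
  by_cases h2 : IsPGroup 2 D
  · exact Or.inl h2
  right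
  refine le_antisymm hD ?_
  rcases hN with h | ⟨r, x, h, rfl⟩
  · have h1 : (D.subgroupOf N).Normal := normal_subgroupOf_of_le_normalizer hn
    have h3 := UniStruct.eq_top_of_normal (UniStruct.isPerfect_of h.perf) h.simp h1 (fun h4 => h2 (by
      have h5 := h4.map N.subtype
      rwa [Subgroup.subgroupOf_map_subtype, inf_eq_left.2 hD] at h5))
    exact subgroupOf_eq_top.1 h3
  · obtain ⟨y, hy, ho, hy1⟩ : ∃ y ∈ D, Odd (orderOf y) ∧ y ≠ 1 := by
      by_contra hcon
      push Not at hcon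
      exact h2 (isPGroup_of_odd hcon)
    have h3 := rm_order h (UniStruct.NP_le_sup h (hD hy)) hy1 ho
    have h4 : r ∣ Nat.card D := by
      rw [← h3]
      exact Subgroup.orderOf_dvd_natCard _ hy
    rw [NP, closure_le]
    rintro _ ⟨g, hg, rfl⟩
    refine UniStruct.mem_of_normal hG hD hn h.prime h.odd h4 (mem_NP hg) ?_
    rw [← h.ord, ← MulAut.conj_apply]
    exact orderOf_injective (MulAut.conj g).toMonoidHom (MulAut.conj g).injective x

/-- a piece is generated by its elements of odd order -/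
theorem pc_gen (hG : OddCyc G) (hN : Pc M N) {K : Subgroup G} (hK : ∀ x ∈ N, Odd (orderOf x) → x ∈ K) : N ≤ K := by
  let D : Subgroup G := closure {x | x ∈ N ∧ Odd (orderOf x)}
  have hDN : D ≤ N := (closure_le _).2 fun x hx => hx.1
  have hDK : D ≤ K := (closure_le _).2 fun x hx => hK x hx.1 hx.2
  have hn : N ≤ normalizer (D : Set G) := by
    refine Block.le_normalizer_of_forall fun n hn x hx => ?_
    refine closure_induction (p := fun x _ => n * x * n⁻¹ ∈ D) ?_ ?_ ?_ ?_ hx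
    · rintro x ⟨hx, ho⟩
      refine subset_closure ⟨mul_mem (mul_mem hn hx) (inv_mem hn), ?_⟩
      rw [← MulAut.conj_apply]
      rwa [show orderOf (MulAut.conj n x) = orderOf x from
        orderOf_injective (MulAut.conj n).toMonoidHom (MulAut.conj n).injective x]
    · simp
    · intro x y _ _ h1 h2
      have e : n * (x * y) * n⁻¹ = (n * x * n⁻¹) * (n * y * n⁻¹) := by group
      rw [e]; exact mul_mem h1 h2
    · intro x _ h1
      have e : n * x⁻¹ * n⁻¹ = (n * x * n⁻¹)⁻¹ := by group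
      rw [e]; exact inv_mem h1
  rcases pc_min hG hN hDN hn with h | h
  · exfalso
    exact hN.not_isPGroup (isPGroup_of_odd fun x hx ho => eq_one_of_two_odd h (subset_closure ⟨hx, ho⟩) ho)
  · rw [← h]; exact hDK

/-- `N` centralises `D` if its elements of odd order do -/
theorem pc_centralizer (hG : OddCyc G) (hN : Pc M N) {D : Subgroup G}
    (hD : ∀ x ∈ N, Odd (orderOf x) → ∀ d ∈ D, d * x = x * d) : N ≤ centralizer (D : Set G) :=
  pc_gen hG hN fun x hx ho => mem_centralizer_iff.2 fun d hd => hD x hx ho d hd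

/-- an element `v` with `[v, N] ≤ Y`, `Y` an elementary abelian 2-group centralised by `N`, is centralised by `N` -/
theorem pc_comm_of (hG : OddCyc G) (hN : Pc M N) {v : G} {Y : Subgroup G} (hY : ∀ y ∈ Y, y * y = 1)
    (hNY : ∀ y ∈ Y, ∀ n ∈ N, n * y = y * n) (hv : ∀ n ∈ N, v * n * v⁻¹ * n⁻¹ ∈ Y) : ∀ n ∈ N, v * n = n * v := by
  have h1 : N ≤ centralizer ({v} : Set G) := pc_gen hG hN fun x hx ho => by
    rw [mem_centralizer_singleton_iff]
    have h2 := hv x hx
    exact (comm_of_odd ho (hNY _ h2 x hx) (hY _ h2)).symm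
  intro n hn
  exact (mem_centralizer_singleton_iff.1 (h1 hn)).symm

/-- case `r`: a subgroup over `O₂(M)` containing an element of order `r` of `N` contains `N` -/
theorem rm_le {r : ℕ} {x : G} (h : RM M r x) {K : Subgroup G} {y : G} (hyN : y ∈ NP M x) (hyr : orderOf y = r)
    (hyK : y ∈ K) (hK : o2 M ≤ K) : NP M x ≤ K := by
  refine (UniStruct.NP_le_sup h).trans (sup_le ?_ hK)
  rw [zpowers_le]
  obtain ⟨i, q, hq, rfl⟩ := mem_sup_iff h.mem (UniStruct.NP_le_sup h hyN)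
  have h1 : x ^ i ∈ K := by
    have h2 := mul_mem hyK (inv_mem (hK hq))
    rwa [mul_inv_cancel_right] at h2
  have h2 : ¬ (r : ℤ) ∣ i := by
    intro hd
    have h3 : x ^ i = 1 := by rw [← orderOf_dvd_iff_zpow_eq_one, h.ord]; exact hd
    rw [h3, one_mul] at hyr
    obtain ⟨n, hn⟩ := Block.o2_isPGroup M ⟨q, hq⟩
    have h4 : q ^ 2 ^ n = 1 := congrArg Subtype.val hn
    have h5 : r ∣ 2 ^ n := hyr ▸ orderOf_dvd_of_pow_eq_one h4
    exact h.odd ((Nat.prime_dvd_prime_iff_eq h.prime Nat.prime_two).1 (h.prime.dvd_of_dvd_pow h5))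
  have h3 : IsCoprime i (r : ℤ) := ((Nat.prime_iff_prime_int.1 h.prime).coprime_iff_not_dvd.2 h2).symm
  obtain ⟨a, b, hab⟩ := h3
  have h4 : x = (x ^ i) ^ a := by
    have h5 : x ^ (r : ℤ) = 1 := by rw [zpow_natCast, ← h.ord, pow_orderOf_eq_one]
    calc x = x ^ (a * i + b * (r : ℤ)) := by rw [hab, zpow_one]
      _ = (x ^ i) ^ a * (x ^ (r : ℤ)) ^ b := by rw [zpow_add, ← zpow_mul, ← zpow_mul, mul_comm a i, mul_comm b]
      _ = (x ^ i) ^ a := by rw [h5, one_zpow, mul_one]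
  rw [h4]
  exact zpow_mem h1 a

/-- (C1) -/
theorem mem_of_order (hG : OddCyc G) (hN : Pc M N) {p : ℕ} (hp : p.Prime) (hp2 : p ≠ 2) (hpN : p ∣ Nat.card N) {y : G}
    (hy : y ∈ M) (hyp : orderOf y = p) : y ∈ N := UniStruct.mem_of_normal hG hN.le hN.norm hp hp2 hpN hy hyp

/-- **(C2)** `N / O₂(N)` simple nonabelian: `p`-elements of `M` lie in `N` for `2 ≠ p ∣ |N|` -/
theorem mem_of_pPower (hG : OddCyc G) (hN : Cp M N) {p : ℕ} (hp : p.Prime) (hp2 : p ≠ 2) (hpN : p ∣ Nat.card N) {y : G}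
    (hy : y ∈ M) {k : ℕ} (hyp : orderOf y = p ^ k) : y ∈ N := by
  have hpf : Fact p.Prime := ⟨hp⟩
  have hyN : zpowers y ≤ normalizer (N : Set G) := zpowers_le.2 (hN.norm hy)
  -- `X = N⟨y⟩`
  obtain ⟨X, hX⟩ : ∃ X : Subgroup G, X = N ⊔ zpowers y := ⟨_, rfl⟩
  have hNX : N ≤ X := hX ▸ le_sup_left
  have hyX' : zpowers y ≤ X := hX ▸ le_sup_right
  have hyX : y ∈ X := hyX' (mem_zpowers y)
  have hXN : X ≤ normalizer (N : Set G) := by
    rw [hX]
    exact sup_le le_normalizer hyN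
  have hn : (N.subgroupOf X).Normal := normal_subgroupOf_of_le_normalizer hXN
  have hcX : OddCyc X := CompBasic.oddCyc_subgroup hG X
  -- a Sylow `p`-subgroup containing `y`
  have hyp' : IsPGroup p (zpowers (⟨y, hyX⟩ : X)) := by
    refine IsPGroup.of_card (n := k) ?_
    rw [Nat.card_zpowers, Subgroup.orderOf_mk, hyp]
  obtain ⟨C, hC⟩ := hyp'.exists_le_sylow
  have hyC : (⟨y, hyX⟩ : X) ∈ C := hC (mem_zpowers _)
  have hCc : IsCyclic C := CompBasic.isCyclic_of_isPGroup hcX hp hp2 C.isPGroup'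
  -- the commutator subgroup of `X` lies in `N`
  have hcomm : commutator X ≤ N.subgroupOf X := by
    have h1 : X ≤ EmpNSBase.cmod X N (zpowers y) := by
      conv_lhs => rw [hX]
      refine sup_le (fun n hn' => ⟨hNX hn', le_normalizer hn', fun w hw => ?_⟩)
        (zpowers_le.2 ⟨hyX, hN.norm hy, fun w hw => ?_⟩)
      · have e : n * w * n⁻¹ * w⁻¹ = n * (w * n⁻¹ * w⁻¹) := by group
        rw [e]
        exact mul_mem hn' (conj_mem (hyN hw) (inv_mem hn'))
      · obtain ⟨i, rfl⟩ := hw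
        have e : y * (fun x : ℤ => y ^ x) i * y⁻¹ * ((fun x : ℤ => y ^ x) i)⁻¹ = 1 := by
          show y * y ^ i * y⁻¹ * (y ^ i)⁻¹ = 1
          group
        rw [e]
        exact one_mem _
    have h2 : X ≤ EmpNSBase.cmod X N X := by
      conv_lhs => rw [hX]
      refine sup_le (fun n hn' => ⟨hNX hn', le_normalizer hn', fun w hw => ?_⟩)
        (fun z hz => ⟨hyX' hz, hyN hz, fun w hw => ?_⟩)
      · have e : n * w * n⁻¹ * w⁻¹ = n * (w * n⁻¹ * w⁻¹) := by group
        rw [e]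
        exact mul_mem hn' (conj_mem (hXN hw) (inv_mem hn'))
      · exact EmpNSBase.comm_symm ((h1 hw).2.2 z hz)
    rw [commutator_def, commutator_le]
    rintro ⟨a, ha⟩ - ⟨b, hb⟩ -
    rw [mem_subgroupOf, commutatorElement_def]
    exact (h2 ha).2.2 b hb
  rcases C.normalizer_le_centralizer_or_le_commutator with h | h
  · exfalso
    have h1 := MonoidHom.not_dvd_card_ker_transferSylow C h
    apply h1
    have h2 : N.subgroupOf X ≤ (MonoidHom.transferSylow C h).ker := by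
      have h3 : ⁅N.subgroupOf X, N.subgroupOf X⁆ = N.subgroupOf X := by
        apply Subgroup.map_injective X.subtype_injective
        rw [Subgroup.map_commutator, Subgroup.subgroupOf_map_subtype, inf_eq_left.2 hNX, hN.perf]
      rw [← h3, commutator_le]
      intro a _ b _
      rw [MonoidHom.mem_ker, map_commutatorElement, commutatorElement_def]
      have h4 : ∀ u v : C, u * v = v * u := fun u v => by
        obtain ⟨g, hg⟩ := hCc.exists_generator
        obtain ⟨i, rfl⟩ := hg u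
        obtain ⟨j, rfl⟩ := hg v
        show g ^ i * g ^ j = g ^ j * g ^ i
        rw [← zpow_add, ← zpow_add, add_comm]
      rw [h4 (MonoidHom.transferSylow C h a)]
      group
    refine dvd_trans ?_ (card_dvd_of_le h2)
    rwa [Nat.card_congr (Subgroup.subgroupOfEquivOfLe hNX).toEquiv]
  · exact hcomm (h hyC)

/-- **(C3)** `|N / O₂(N)| = r`: `r` does not divide `|L ∩ M|` -/
theorem not_dvd_LL {S : Sylow 2 G} {I N : Subgroup G} (h : ENS S) (hI : TIData (S : Subgroup G) I)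
    (hN : JP (S : Subgroup G) I N) {r : ℕ} {x : G} (hx : RM (normalizer (I : Set G)) r x)
    (hNx : N = NP (normalizer (I : Set G)) x) :
    ¬ r ∣ Nat.card (LL (S : Subgroup G) ⊓ normalizer (I : Set G) : Subgroup G) := by
  intro hd
  have hrf : Fact r.Prime := ⟨hx.prime⟩
  obtain ⟨⟨y, hyLM⟩, hy⟩ := exists_prime_orderOf_dvd_card' r hd
  rw [Subgroup.orderOf_mk] at hy
  obtain ⟨hyL, hyM⟩ := Subgroup.mem_inf.1 hyLM
  have h1 : y ∈ N := mem_of_order h.hyp.cyc hN.pc hx.prime hx.odd (by rw [hNx]; exact hx.dvd) hyM hy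
  apply hN.not_le_LL h hI
  rw [hNx] at h1 ⊢
  refine rm_le hx h1 hy hyL ?_
  exact (UniStruct.o2_le_sylow S hI.S_le).trans h.le_LL

end Cfsg.Agent.OddCyclic.EmpG.Pcs
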